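import Groth.Agent.HilbDLib.Separated

/-!
# The Hilbert functor of a closed subscheme
-/

set_option autoImplicit false
set_option linter.style.haveILetI false

universe u
open CategoryTheory CategoryTheory.Limits AlgebraicGeometry

namespace Groth.Agent.HilbDLib

variable {X S : Scheme.{u}} (f : X ⟶ S)

theorem pull_id {T : Over S} (I : (PicF.XT f T).IdealSheafData) : HilbD.pull f (𝟙 T) I = I := by
  have : PicF.XTmap f (𝟙 T) = 𝟙 _ := by
    apply pullback.hom_ext <;> simp [PicF.XTmap, pullback.map]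
  rw [pull_eq_comap, this, Scheme.IdealSheafData.comap_id]

theorem finLocFreeOfDeg_ker {d : ℕ} {P Q T : Scheme.{u}} (s : P ⟶ Q) [IsClosedImmersion s] (p : Q ⟶ T) :
    Mor2.IsFinLocFreeOfDeg d (s.ker.subschemeι ≫ p) ↔ Mor2.IsFinLocFreeOfDeg d (s ≫ p) := by
  have e : s ≫ p = s.toImage ≫ (s.ker.subschemeι ≫ p) := by
    rw [← Category.assoc]
    exact congrArg (· ≫ p) (Scheme.Hom.toImage_imageι s).symm
  constructor
  · rintro ⟨⟨h1, h2, h3⟩, h4⟩
    rw [e]
    exact ⟨⟨inferInstance, inferInstance, inferInstance⟩, fun y => by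
      rw [Scheme.Hom.finrank_comp_left_of_isIso]; exact h4 y⟩
  · intro h
    have e' : s.ker.subschemeι ≫ p = inv s.toImage ≫ (s ≫ p) := by rw [e, IsIso.inv_hom_id_assoc]
    obtain ⟨⟨h1, h2, h3⟩, h4⟩ := h
    rw [e']
    exact ⟨⟨inferInstance, inferInstance, inferInstance⟩, fun y => by
      rw [Scheme.Hom.finrank_comp_left_of_isIso]; exact h4 y⟩

section push

variable {Y : Scheme.{u}} (i : X ⟶ Y) (g : Y ⟶ S)

/-- `X_T ⟶ Y_T`. -/
noncomputable abbrev jT (T : Over S) : PicF.XT (i ≫ g) T ⟶ PicF.XT g T :=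
  pullback.map (i ≫ g) T.hom g T.hom i (𝟙 _) (𝟙 S) (Category.comp_id _) (by simp)

theorem jT_proj (T : Over S) : jT i g T ≫ PicF.XTproj g T = PicF.XTproj (i ≫ g) T := by
  show pullback.map _ _ _ _ _ _ _ _ _ ≫ pullback.snd _ _ = pullback.snd _ _
  rw [pullback.lift_snd, Category.comp_id]

theorem jT_XTmap {T T' : Over S} (m : T' ⟶ T) :
    PicF.XTmap (i ≫ g) m ≫ jT i g T = jT i g T' ≫ PicF.XTmap g m := by
  apply pullback.hom_ext
  · simp only [PicF.XTmap, jT, pullback.map, Category.assoc, pullback.lift_fst, pullback.lift_fst_assoc,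
      Category.comp_id]
  · simp only [PicF.XTmap, jT, pullback.map, Category.assoc, pullback.lift_snd, pullback.lift_snd_assoc,
      Category.comp_id]

theorem isPullback_jT {T T' : Over S} (m : T' ⟶ T) :
    IsPullback (jT i g T') (PicF.XTmap (i ≫ g) m) (PicF.XTmap g m) (jT i g T) := by
  refine (IsPullback.of_bot ?_ (jT_XTmap i g m) (isPullback_XTmap g m)).flip
  rw [jT_proj, jT_proj]
  exact isPullback_XTmap (i ≫ g) m

variable [IsClosedImmersion i]

instance isClosedImmersion_jT (T : Over S) : IsClosedImmersion (jT i g T) := by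
  have h : IsPullback (pullback.fst (i ≫ g) T.hom) (jT i g T) i (pullback.fst g T.hom) := by
    refine IsPullback.of_bot ?_ (pullback.lift_fst _ _ _).symm (IsPullback.of_hasPullback g T.hom)
    rw [show jT i g T ≫ pullback.snd g T.hom = pullback.snd (i ≫ g) T.hom from jT_proj i g T]
    exact IsPullback.of_hasPullback (i ≫ g) T.hom
  exact MorphismProperty.of_isPullback (P := @IsClosedImmersion) h inferInstance

theorem push_eq (T : Over S) (I : (PicF.XT (i ≫ g) T).IdealSheafData) :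
    HilbD.push i g T I = (I.subschemeι ≫ jT i g T).ker := rfl

theorem deg_push {d : ℕ} (T : Over S) (I : (PicF.XT (i ≫ g) T).IdealSheafData) :
    Mor2.IsFinLocFreeOfDeg d ((HilbD.push i g T I).subschemeι ≫ PicF.XTproj g T) ↔
      Mor2.IsFinLocFreeOfDeg d (I.subschemeι ≫ PicF.XTproj (i ≫ g) T) := by
  rw [push_eq, finLocFreeOfDeg_ker, Category.assoc, jT_proj]

theorem jT_ker_le_push (T : Over S) (I : (PicF.XT (i ≫ g) T).IdealSheafData) :
    (jT i g T).ker ≤ HilbD.push i g T I := by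
  rw [push_eq]
  exact Scheme.Hom.le_ker_comp _ _

theorem exists_push_eq {T : Over S} (K : (PicF.XT g T).IdealSheafData) (h : (jT i g T).ker ≤ K) :
    ∃ I, HilbD.push i g T I = K := by
  let l : K.subscheme ⟶ PicF.XT (i ≫ g) T :=
    IsClosedImmersion.lift (jT i g T) K.subschemeι (by rwa [Scheme.IdealSheafData.ker_subschemeι])
  have hl : l ≫ jT i g T = K.subschemeι := IsClosedImmersion.lift_fac _ _ _
  haveI : IsClosedImmersion (l ≫ jT i g T) := by rw [hl]; infer_instance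
  haveI : IsClosedImmersion l := IsClosedImmersion.of_comp l (jT i g T)
  refine ⟨l.ker, ?_⟩
  rw [push_eq]
  have e : l.toImage ≫ (l.ker.subschemeι ≫ jT i g T) = K.subschemeι := by
    rw [← Category.assoc]
    exact (congrArg (· ≫ jT i g T) (Scheme.Hom.toImage_imageι l)).trans hl
  rw [← Scheme.Hom.ker_comp_of_isIso l.toImage (l.ker.subschemeι ≫ jT i g T), e, Scheme.IdealSheafData.ker_subschemeι]

theorem push_injective (T : Over S) : Function.Injective (HilbD.push i g T) := by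
  have key : ∀ I₁ I₂ : (PicF.XT (i ≫ g) T).IdealSheafData, HilbD.push i g T I₁ ≤ HilbD.push i g T I₂ → I₁ ≤ I₂ := by
    intro I₁ I₂ h
    let l := IsClosedImmersion.lift (I₁.subschemeι ≫ jT i g T) (I₂.subschemeι ≫ jT i g T) h
    have hl : l ≫ I₁.subschemeι = I₂.subschemeι := by
      rw [← cancel_mono (jT i g T), Category.assoc]
      exact IsClosedImmersion.lift_fac _ _ _
    calc I₁ = I₁.subschemeι.ker := (Scheme.IdealSheafData.ker_subschemeι _).symm
      _ ≤ (l ≫ I₁.subschemeι).ker := Scheme.Hom.le_ker_comp _ _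
      _ = I₂ := by rw [hl, Scheme.IdealSheafData.ker_subschemeι]
  exact fun I₁ I₂ h => le_antisymm (key I₁ I₂ h.le) (key I₂ I₁ h.ge)

theorem pull_jT_ker {T T' : Over S} (m : T' ⟶ T) : HilbD.pull g m (jT i g T).ker = (jT i g T').ker :=
  pull_eq_ker_of_isPullback g m (isPullback_jT i g m)

theorem pull_push {T T' : Over S} (m : T' ⟶ T) (I : (PicF.XT (i ≫ g) T).IdealSheafData) :
    HilbD.pull g m (HilbD.push i g T I) = HilbD.push i g T' (HilbD.pull (i ≫ g) m I) := by
  let P := pullback.fst (PicF.XTmap (i ≫ g) m) I.subschemeι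
  have H : IsPullback (P ≫ jT i g T') (pullback.snd (PicF.XTmap (i ≫ g) m) I.subschemeι) (PicF.XTmap g m)
      (I.subschemeι ≫ jT i g T) :=
    (IsPullback.of_hasPullback (PicF.XTmap (i ≫ g) m) I.subschemeι).paste_horiz (isPullback_jT i g m)
  rw [push_eq, pull_eq_ker_of_isPullback g m H, push_eq]
  have e : HilbD.pull (i ≫ g) m I = P.ker := pull_eq_comap _ m I
  rw [e]
  have e2 : P.toImage ≫ (P.ker.subschemeι ≫ jT i g T') = P ≫ jT i g T' := by
    rw [← Category.assoc]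
    exact congrArg (· ≫ jT i g T') (Scheme.Hom.toImage_imageι P)
  rw [← e2, Scheme.Hom.ker_comp_of_isIso]

theorem exists_universal (d : ℕ) (H : Over S) (Z : HilbD.Obj g d H) (hZ : HilbD.IsUniversal g d H Z) :
    ∃ (K : Over S) (ZK : HilbD.Obj (i ≫ g) d K) (k : K ⟶ H), IsClosedImmersion k.left ∧
      HilbD.IsUniversal (i ≫ g) d K ZK ∧ HilbD.pull g k Z.1 = HilbD.push i g K ZK.1 := by
  obtain ⟨hπ, -⟩ := Z.2
  obtain ⟨a1, a2, a3⟩ := hπ
  obtain ⟨K₀, k₀, hk₀, uK⟩ := GrpSchLib.exists_weilRestriction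
    (hasIdeals_of_finLocFree (Z.1.subschemeι ≫ PicF.XTproj g H) (pullback.fst Z.1.subschemeι (jT i g H).ker.subschemeι))
  have good : ∀ (T : Over S) (m : T ⟶ H), (∃ w, w ≫ k₀ = m.left) ↔ (jT i g T).ker ≤ HilbD.pull g m Z.1 := by
    intro T m
    rw [uK, good_iff_comap_le g m Z.1 (jT i g H).ker, ← pull_eq_comap, ← pull_eq_comap, pull_jT_ker]
  let K : Over S := Over.mk (k₀ ≫ H.hom)
  let k : K ⟶ H := Over.homMk k₀ rfl
  obtain ⟨IK, hIK⟩ := exists_push_eq i g (HilbD.pull g k Z.1) ((good K k).1 ⟨𝟙 _, Category.id_comp _⟩)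
  let ZK : HilbD.Obj (i ≫ g) d K := ⟨IK, (deg_push i g K IK).1 (hIK ▸ isFinLocFreeOfDeg_pull g k Z.1 Z.2)⟩
  haveI : IsClosedImmersion k₀ := hk₀
  refine ⟨K, ZK, k, hk₀, fun T Z'' => ?_, hIK.symm⟩
  obtain ⟨m, hm, huniq⟩ := hZ T ⟨_, (deg_push i g T Z''.1).2 Z''.2⟩
  change HilbD.pull g m Z.1 = HilbD.push i g T Z''.1 at hm
  obtain ⟨w, hw⟩ := (good T m).2 (hm ▸ jT_ker_le_push i g T Z''.1)
  let m' : T ⟶ K := Over.homMk w (by
    show w ≫ k₀ ≫ H.hom = T.hom
    rw [reassoc_of% hw, Over.w m])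
  have hm' : m' ≫ k = m := Over.OverMorphism.ext hw
  refine ⟨m', push_injective i g T ?_, fun m'' hm'' => ?_⟩
  · rw [← pull_push, hIK, pull_pull, hm', hm]
  · have h1 : m'' ≫ k = m := huniq _ (by
      show HilbD.pull g (m'' ≫ k) Z.1 = HilbD.push i g T Z''.1
      rw [← pull_pull, ← hIK, pull_push]
      exact congrArg _ hm'')
    apply Over.OverMorphism.ext
    rw [← cancel_mono k₀]
    exact (congrArg CommaMorphism.left h1).trans hw.symm

theorem representable_comp_closedImmersion (d : ℕ) (H : Over S) (Z : HilbD.Obj g d H)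
    (hZ : HilbD.IsUniversal g d H Z) :
    HilbD.Representable (i ≫ g) d ∧
    ∀ (H' : Over S) (Z' : HilbD.Obj (i ≫ g) d H') (_ : HilbD.IsUniversal (i ≫ g) d H' Z') (m : H' ⟶ H),
      HilbD.pull g m Z.1 = HilbD.push i g H' Z'.1 → IsClosedImmersion m.left := by
  obtain ⟨K, ZK, k, hk, hK, hkZ⟩ := exists_universal i g d H Z hZ
  refine ⟨⟨K, ZK, hK⟩, fun H' Z' hZ' m hm => ?_⟩
  obtain ⟨e, he, -⟩ := hK H' Z'
  obtain ⟨e', he', -⟩ := hZ' K ZK
  have h1 : e ≫ e' = 𝟙 H' := (hZ' H' Z').unique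
    (by show HilbD.pull (i ≫ g) (e ≫ e') Z'.1 = Z'.1; rw [← pull_pull, he', he]) (pull_id _ _)
  have h2 : e' ≫ e = 𝟙 K := (hK K ZK).unique
    (by show HilbD.pull (i ≫ g) (e' ≫ e) ZK.1 = ZK.1; rw [← pull_pull, he, he']) (pull_id _ _)
  haveI : IsIso e := ⟨e', h1, h2⟩
  have h3 : m = e ≫ k := (hZ H' ⟨_, (deg_push i g H' Z'.1).2 Z'.2⟩).unique hm (by
    show HilbD.pull g (e ≫ k) Z.1 = HilbD.push i g H' Z'.1
    rw [← pull_pull, hkZ, pull_push, he])
  rw [h3, Over.comp_left]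
  haveI := hk
  haveI : IsIso e.left := inferInstanceAs (IsIso ((Over.forget S).map e))
  infer_instance

end push

end Groth.Agent.HilbDLib
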