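import Groth.Prelude.Def_HilbD
import Mathlib.AlgebraicGeometry.IdealSheaf.Functorial
import Mathlib.AlgebraicGeometry.Morphisms.Separated

/-!
# Base change of closed subschemes in the Hilbert functor; graphs of sections
-/

set_option autoImplicit false
set_option linter.style.haveILetI false

universe u
open CategoryTheory CategoryTheory.Limits AlgebraicGeometry

namespace Groth.Agent.HilbDLib

variable {X S : Scheme.{u}} (f : X ⟶ S)

theorem pull_eq_comap {T T' : Over S} (g : T' ⟶ T) (I : (PicF.XT f T).IdealSheafData) :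
    HilbD.pull f g I = I.comap (PicF.XTmap f g) := by
  show (pullback.snd I.subschemeι (PicF.XTmap f g)).ker = (pullback.fst (PicF.XTmap f g) I.subschemeι).ker
  rw [← pullbackSymmetry_hom_comp_fst, Scheme.Hom.ker_comp_of_isIso]

theorem pull_eq_ker_of_isPullback {T T' : Over S} (g : T' ⟶ T) {P Q : Scheme.{u}} {s' : P ⟶ PicF.XT f T'}
    {u' : P ⟶ Q} {s : Q ⟶ PicF.XT f T} [IsClosedImmersion s] (H : IsPullback s' u' (PicF.XTmap f g) s) :
    HilbD.pull f g s.ker = s'.ker := by
  rw [pull_eq_comap, ← Scheme.IdealSheafData.ker_fst_of_isClosedImmersion, ← H.isoPullback_hom_fst,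
    Scheme.Hom.ker_comp_of_isIso]

/-- The section of `X_T ⟶ T` defined by a point. -/
noncomputable def sec (T : Over S) (x : T.left ⟶ X) (hx : x ≫ f = T.hom) : T.left ⟶ PicF.XT f T :=
  pullback.lift x (𝟙 T.left) (by simpa using hx)

@[simp] theorem sec_fst (T : Over S) (x : T.left ⟶ X) (hx : x ≫ f = T.hom) :
    sec f T x hx ≫ pullback.fst f T.hom = x := pullback.lift_fst _ _ _

@[simp] theorem sec_proj (T : Over S) (x : T.left ⟶ X) (hx : x ≫ f = T.hom) :
    sec f T x hx ≫ PicF.XTproj f T = 𝟙 _ := pullback.lift_snd _ _ _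

theorem secGraph_eq (T : Over S) (x : T.left ⟶ X) (hx : x ≫ f = T.hom) :
    HilbD.secGraph f T x hx = (sec f T x hx).ker := rfl

theorem isPullback_XTmap {T T' : Over S} (g : T' ⟶ T) :
    IsPullback (PicF.XTmap f g) (PicF.XTproj f T') (PicF.XTproj f T) g.left := by
  refine IsPullback.of_bot ?_ ?_ (IsPullback.of_hasPullback f T.hom).flip
    (v₁₁ := PicF.XTmap f g) |>.flip
  · rw [show PicF.XTmap f g ≫ pullback.fst f T.hom = pullback.fst f T'.hom ≫ 𝟙 X from pullback.lift_fst _ _ _,
      Category.comp_id, Over.w g]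
    exact (IsPullback.of_hasPullback f T'.hom).flip
  · exact (pullback.lift_snd _ _ _).symm

variable [IsSeparated f]

instance isClosedImmersion_sec (T : Over S) (x : T.left ⟶ X) (hx : x ≫ f = T.hom) :
    IsClosedImmersion (sec f T x hx) := by
  have : IsClosedImmersion (sec f T x hx ≫ PicF.XTproj f T) := by rw [sec_proj]; infer_instance
  exact IsClosedImmersion.of_comp (sec f T x hx) (PicF.XTproj f T)

/-- The graph of `g` is the base change of the diagonal. -/
theorem isPullback_sec {T : Over S} (g : T ⟶ Over.mk f) :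
    IsPullback (sec f T g.left (Over.w g)) g.left (PicF.XTmap f g) (sec f (Over.mk f) (𝟙 X) (Category.id_comp f)) := by
  have hsq : sec f T g.left (Over.w g) ≫ PicF.XTmap f g =
      g.left ≫ sec f (Over.mk f) (𝟙 X) (Category.id_comp f) := by
    apply pullback.hom_ext
    · simp only [Category.assoc, PicF.XTmap, pullback.lift_fst, sec_fst, Category.comp_id]
      rfl
    · simp only [Category.assoc, PicF.XTmap, pullback.lift_snd]
      rw [← Category.assoc, show sec f T g.left (Over.w g) ≫ pullback.snd f T.hom = 𝟙 _ from sec_proj f T _ _]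
      simp only [Category.id_comp]
      rw [show sec f (Over.mk f) (𝟙 X) (Category.id_comp f) ≫ pullback.snd f (Over.mk f).hom = 𝟙 _ from
        sec_proj f _ _ _]
      exact (Category.comp_id _).symm
  refine (IsPullback.of_bot ?_ hsq.symm (isPullback_XTmap f g)).flip
  rw [sec_proj, sec_proj]
  exact IsPullback.of_vert_isIso ⟨by simp⟩

theorem pull_diagonal {T : Over S} (g : T ⟶ Over.mk f) :
    HilbD.pull f g (HilbD.secGraph f (Over.mk f) (𝟙 X) (Category.id_comp f)) =
      (sec f T g.left (Over.w g)).ker :=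
  haveI := isClosedImmersion_sec f (Over.mk f) (𝟙 X) (Category.id_comp f)
  pull_eq_ker_of_isPullback f g (s := sec f (Over.mk f) (𝟙 X) (Category.id_comp f)) (isPullback_sec f g)

end Groth.Agent.HilbDLib
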