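import Groth.Agent.HilbDLib.ClosedSub
import Groth.Agent.DescLib.IdealDescent

/-!
# The Hilbert functor is a Zariski sheaf; representability can be tested on affine test schemes
-/

set_option autoImplicit false
set_option linter.style.haveILetI false

universe u
open CategoryTheory CategoryTheory.Limits AlgebraicGeometry MorphismProperty

namespace Groth.Agent.HilbDLib.RepCrit

variable {X S : Scheme.{u}} (f : X ⟶ S) (d : ℕ)

/-- Base change of a point. -/
noncomputable def pullObj {T T' : Over S} (g : T' ⟶ T) (Z : HilbD.Obj f d T) : HilbD.Obj f d T' :=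
  ⟨HilbD.pull f g Z.1, isFinLocFreeOfDeg_pull f g Z.1 Z.2⟩

variable {T : Over S} (𝒰 : Scheme.OpenCover.{u} T.left)

theorem mem_fpqc :
    Presieve.ofArrows (fun i => PicF.XT f (HilbD.coverOver T (𝒰.f i)))
      (fun i => PicF.XTmap f (HilbD.coverHom T (𝒰.f i))) ∈ Scheme.fpqcPrecoverage (PicF.XT f T) :=
  Scheme.zariskiPrecoverage_le_fpqcPrecoverage _
    (Scheme.zariskiPrecoverage.mem_coverings_of_isPullback 𝒰.f 𝒰.mem₀ (PicF.XTproj f T) _
      (fun i => PicF.XTproj f (HilbD.coverOver T (𝒰.f i)))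
      (fun i => isPullback_XTmap f (HilbD.coverHom T (𝒰.f i))))

theorem existsUnique_glue_ideal (I : ∀ i, (PicF.XT f (HilbD.coverOver T (𝒰.f i))).IdealSheafData)
    (h : ∀ (i j) (T' : Over S) (a : T' ⟶ HilbD.coverOver T (𝒰.f i)) (b : T' ⟶ HilbD.coverOver T (𝒰.f j)),
      a ≫ HilbD.coverHom T (𝒰.f i) = b ≫ HilbD.coverHom T (𝒰.f j) → HilbD.pull f a (I i) = HilbD.pull f b (I j)) :
    ∃! J : (PicF.XT f T).IdealSheafData, ∀ i, HilbD.pull f (HilbD.coverHom T (𝒰.f i)) J = I i := by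
  simp only [pull_eq_comap f (HilbD.coverHom T _)]
  refine DescLib.existsUnique_descend_fpqc
    (fun i => PicF.XTmap f (HilbD.coverHom T (𝒰.f i))) (mem_fpqc f 𝒰) I fun i j => ?_
  let gi := PicF.XTmap f (HilbD.coverHom T (𝒰.f i))
  let gj := PicF.XTmap f (HilbD.coverHom T (𝒰.f j))
  let a0 : pullback gi gj ⟶ 𝒰.X i := pullback.fst gi gj ≫ PicF.XTproj f (HilbD.coverOver T (𝒰.f i))
  let b0 : pullback gi gj ⟶ 𝒰.X j := pullback.snd gi gj ≫ PicF.XTproj f (HilbD.coverOver T (𝒰.f j))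
  have hc : a0 ≫ 𝒰.f i = b0 ≫ 𝒰.f j := by
    have hi : gi ≫ PicF.XTproj f T = PicF.XTproj f (HilbD.coverOver T (𝒰.f i)) ≫ 𝒰.f i :=
      (isPullback_XTmap f (HilbD.coverHom T (𝒰.f i))).w
    have hj : gj ≫ PicF.XTproj f T = PicF.XTproj f (HilbD.coverOver T (𝒰.f j)) ≫ 𝒰.f j :=
      (isPullback_XTmap f (HilbD.coverHom T (𝒰.f j))).w
    simp only [a0, b0, Category.assoc, ← hi, ← hj, pullback.condition_assoc]
  let T' : Over S := Over.mk (a0 ≫ 𝒰.f i ≫ T.hom)
  let a : T' ⟶ HilbD.coverOver T (𝒰.f i) := Over.homMk a0 rfl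
  let b : T' ⟶ HilbD.coverOver T (𝒰.f j) := Over.homMk b0 (by
    show b0 ≫ 𝒰.f j ≫ T.hom = a0 ≫ 𝒰.f i ≫ T.hom
    rw [reassoc_of% hc])
  have ha : (pullback.fst gi gj ≫ pullback.fst f (HilbD.coverOver T (𝒰.f i)).hom) ≫ f = 𝟙 _ ≫ T'.hom := by
    rw [Category.assoc, pullback.condition, Category.id_comp]
    exact (Category.assoc _ _ _).symm
  let m : pullback gi gj ⟶ PicF.XT f T' := pullback.lift _ _ ha
  have e1 : m ≫ PicF.XTmap f a = pullback.fst gi gj := by
    apply pullback.hom_ext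
    · simp only [m, PicF.XTmap, Category.assoc, pullback.lift_fst, Category.comp_id]
    · simp only [m, PicF.XTmap, Category.assoc, pullback.lift_snd, pullback.lift_snd_assoc, Category.id_comp]
      rfl
  have hp : ∀ (k) (q : pullback gi gj ⟶ PicF.XT f (HilbD.coverOver T (𝒰.f k))),
      q ≫ pullback.fst f (HilbD.coverOver T (𝒰.f k)).hom =
        q ≫ PicF.XTmap f (HilbD.coverHom T (𝒰.f k)) ≫ pullback.fst f T.hom := fun k q => by
    simp only [PicF.XTmap, pullback.lift_fst, Category.comp_id]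
  have e2 : m ≫ PicF.XTmap f b = pullback.snd gi gj := by
    apply pullback.hom_ext
    · simp only [m, PicF.XTmap, Category.assoc, pullback.lift_fst, Category.comp_id]
      rw [hp, hp]
      exact pullback.condition_assoc _
    · simp only [m, PicF.XTmap, Category.assoc, pullback.lift_snd, pullback.lift_snd_assoc, Category.id_comp]
      rfl
  have := congrArg (fun K => K.comap m) (h i j T' a b (Over.OverMorphism.ext hc))
  simp only [pull_eq_comap, ← Scheme.IdealSheafData.comap_comp] at this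
  rwa [e1, e2] at this

theorem eq_of_cover {I J : (PicF.XT f T).IdealSheafData}
    (h : ∀ i, HilbD.pull f (HilbD.coverHom T (𝒰.f i)) I = HilbD.pull f (HilbD.coverHom T (𝒰.f i)) J) :
    I = J := by
  refine (existsUnique_glue_ideal f 𝒰 (fun i => HilbD.pull f (HilbD.coverHom T (𝒰.f i)) J) ?_).unique h fun _ => rfl
  intro i j T' a b e
  rw [pull_pull, pull_pull, e]

theorem finLocFreeOfDeg_of_cover (I : (PicF.XT f T).IdealSheafData)
    (h : ∀ i, Mor2.IsFinLocFreeOfDeg d ((HilbD.pull f (HilbD.coverHom T (𝒰.f i)) I).subschemeι ≫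
      PicF.XTproj f (HilbD.coverOver T (𝒰.f i)))) :
    Mor2.IsFinLocFreeOfDeg d (I.subschemeι ≫ PicF.XTproj f T) := by
  let π := I.subschemeι ≫ PicF.XTproj f T
  have hs : ∀ i, Mor2.IsFinLocFreeOfDeg d (pullback.snd π (𝒰.f i)) := fun i => by
    let gg := HilbD.coverHom T (𝒰.f i)
    let s := pullback.fst (PicF.XTmap f gg) I.subschemeι
    have H : IsPullback (pullback.snd (PicF.XTmap f gg) I.subschemeι)
        (s ≫ PicF.XTproj f (HilbD.coverOver T (𝒰.f i))) π (𝒰.f i) :=
      (IsPullback.of_hasPullback (PicF.XTmap f gg) I.subschemeι).flip.paste_vert (isPullback_XTmap f gg)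
    have h' := h i
    rw [pull_eq_comap, show I.comap (PicF.XTmap f gg) = s.ker from rfl, finLocFreeOfDeg_ker] at h'
    obtain ⟨⟨h1, h2, h3⟩, h4⟩ := h'
    rw [← H.isoPullback_inv_snd]
    exact ⟨⟨inferInstance, inferInstance, inferInstance⟩, fun y => by
      rw [Scheme.Hom.finrank_comp_left_of_isIso]; exact h4 y⟩
  haveI : IsFinite π := IsZariskiLocalAtTarget.of_openCover (P := @IsFinite) 𝒰 fun i => (hs i).1.1
  haveI : Flat π := IsZariskiLocalAtTarget.of_openCover (P := @Flat) 𝒰 fun i => (hs i).1.2.1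
  haveI : LocallyOfFinitePresentation π :=
    IsZariskiLocalAtTarget.of_openCover (P := @LocallyOfFinitePresentation) 𝒰 fun i => (hs i).1.2.2
  refine ⟨⟨inferInstance, inferInstance, inferInstance⟩, fun y => ?_⟩
  obtain ⟨i, y', rfl⟩ := 𝒰.exists_eq y
  show π.finrank _ = d
  rw [← Scheme.Hom.finrank_pullback_snd π (𝒰.f i)]
  exact (hs i).2 y'

theorem existsUnique_glue (Z : ∀ i, HilbD.Obj f d (HilbD.coverOver T (𝒰.f i)))
    (h : ∀ (i j) (T' : Over S) (a : T' ⟶ HilbD.coverOver T (𝒰.f i)) (b : T' ⟶ HilbD.coverOver T (𝒰.f j)),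
      a ≫ HilbD.coverHom T (𝒰.f i) = b ≫ HilbD.coverHom T (𝒰.f j) →
        HilbD.pull f a (Z i).1 = HilbD.pull f b (Z j).1) :
    ∃! W : HilbD.Obj f d T, ∀ i, pullObj f d (HilbD.coverHom T (𝒰.f i)) W = Z i := by
  obtain ⟨J, hJ, huniq⟩ := existsUnique_glue_ideal f 𝒰 (fun i => (Z i).1) h
  exact ⟨⟨J, finLocFreeOfDeg_of_cover f d 𝒰 J fun i => (hJ i).symm ▸ (Z i).2⟩, fun i => Subtype.ext (hJ i),
    fun W hW => Subtype.ext (huniq W.1 fun i => congrArg Subtype.val (hW i))⟩

/-- Representability can be tested on affine test schemes. -/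
theorem representable_of_affine (H : Over S)
    (e : ∀ T : Over S, IsAffine T.left → ((T ⟶ H) ≃ HilbD.Obj f d T))
    (he : ∀ (T T' : Over S) (hT : IsAffine T.left) (hT' : IsAffine T'.left) (h : T' ⟶ T) (g : T ⟶ H),
      (e T' hT' (h ≫ g)).1 = HilbD.pull f h (e T hT g).1) :
    HilbD.Representable f d := by
  let 𝒰 := H.left.affineCover
  let U := fun k => HilbD.coverOver H (𝒰.f k)
  have hU : ∀ k, IsAffine (U k).left := fun k => inferInstanceAs (IsAffine (𝒰.X k))
  let I := fun k => e (U k) (hU k) (HilbD.coverHom H (𝒰.f k))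
  obtain ⟨Z, hZ, -⟩ := existsUnique_glue f d 𝒰 I (fun i j T' a b hab => by
    refine eq_of_cover f T'.left.affineCover fun w => ?_
    have hW : IsAffine (HilbD.coverOver T' (T'.left.affineCover.f w)).left :=
      inferInstanceAs (IsAffine (T'.left.affineCover.X w))
    rw [pull_pull, pull_pull, ← he _ _ (hU i) hW, ← he _ _ (hU j) hW, Category.assoc, Category.assoc, hab])
  refine ⟨H, Z, ?_⟩
  have key : ∀ (T : Over S) (hT : IsAffine T.left) (g : T ⟶ H), HilbD.pull f g Z.1 = (e T hT g).1 := by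
    intro T hT g
    refine eq_of_cover f (Precoverage.ZeroHypercover.pullback₁ g.left 𝒰) fun k => ?_
    let P := HilbD.coverOver T (pullback.fst g.left (𝒰.f k))
    let j : P ⟶ T := HilbD.coverHom T (pullback.fst g.left (𝒰.f k))
    let s : P ⟶ U k := Over.homMk (pullback.snd g.left (𝒰.f k)) (by
      show pullback.snd g.left (𝒰.f k) ≫ 𝒰.f k ≫ H.hom = pullback.fst g.left (𝒰.f k) ≫ T.hom
      rw [← pullback.condition_assoc, Over.w g])
    have hjs : j ≫ g = s ≫ HilbD.coverHom H (𝒰.f k) := Over.OverMorphism.ext pullback.condition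
    show HilbD.pull f j _ = HilbD.pull f j _
    refine eq_of_cover f P.left.affineCover fun w => ?_
    let i := HilbD.coverHom P (P.left.affineCover.f w)
    have hW : IsAffine (HilbD.coverOver P (P.left.affineCover.f w)).left :=
      inferInstanceAs (IsAffine (P.left.affineCover.X w))
    show HilbD.pull f i _ = HilbD.pull f i _
    calc HilbD.pull f i (HilbD.pull f j (HilbD.pull f g Z.1))
        = HilbD.pull f (i ≫ s) (HilbD.pull f (HilbD.coverHom H (𝒰.f k)) Z.1) := by
          rw [pull_pull, pull_pull, pull_pull, Category.assoc, Category.assoc, hjs]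
      _ = (e _ hW ((i ≫ j) ≫ g)).1 := by
          rw [show HilbD.pull f (HilbD.coverHom H (𝒰.f k)) Z.1 = (I k).1 from congrArg Subtype.val (hZ k),
            ← he _ _ (hU k) hW, Category.assoc, Category.assoc, hjs]
      _ = HilbD.pull f i (HilbD.pull f j (e T hT g).1) := by
          rw [he _ _ hT hW, ← pull_pull]
  have huniq : ∀ (T : Over S) (g g' : T ⟶ H), HilbD.pull f g Z.1 = HilbD.pull f g' Z.1 → g = g' := by
    intro T g g' h
    refine Over.OverMorphism.ext (T.left.affineCover.hom_ext _ _ fun w => ?_)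
    let j := HilbD.coverHom T (T.left.affineCover.f w)
    have hW : IsAffine (HilbD.coverOver T (T.left.affineCover.f w)).left :=
      inferInstanceAs (IsAffine (T.left.affineCover.X w))
    have : j ≫ g = j ≫ g' := (e _ hW).injective (Subtype.ext (by
      rw [← key _ hW, ← key _ hW, ← pull_pull, ← pull_pull, h]))
    exact congrArg CommaMorphism.left this
  intro T Z'
  let 𝒲 := T.left.affineCover
  let W := fun w => HilbD.coverOver T (𝒲.f w)
  have hW : ∀ w, IsAffine (W w).left := fun w => inferInstanceAs (IsAffine (𝒲.X w))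
  let hh := fun w => (e (W w) (hW w)).symm (pullObj f d (HilbD.coverHom T (𝒲.f w)) Z')
  have hhh : ∀ w, HilbD.pull f (hh w) Z.1 = HilbD.pull f (HilbD.coverHom T (𝒲.f w)) Z'.1 := fun w => by
    rw [key _ (hW w), Equiv.apply_symm_apply]
    rfl
  have hcompat : ∀ v w, pullback.fst (𝒲.f v) (𝒲.f w) ≫ (hh v).left = pullback.snd (𝒲.f v) (𝒲.f w) ≫ (hh w).left := by
    intro v w
    let P : Over S := Over.mk (pullback.fst (𝒲.f v) (𝒲.f w) ≫ 𝒲.f v ≫ T.hom)
    let a : P ⟶ W v := Over.homMk (pullback.fst (𝒲.f v) (𝒲.f w)) rfl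
    let b : P ⟶ W w := Over.homMk (pullback.snd (𝒲.f v) (𝒲.f w)) (by
      show pullback.snd (𝒲.f v) (𝒲.f w) ≫ 𝒲.f w ≫ T.hom = _
      rw [← pullback.condition_assoc]
      rfl)
    have := huniq P (a ≫ hh v) (b ≫ hh w) (by
      rw [← pull_pull, ← pull_pull, hhh, hhh, pull_pull, pull_pull]
      exact congrArg (fun t => HilbD.pull f t Z'.1) (Over.OverMorphism.ext pullback.condition))
    exact congrArg CommaMorphism.left this
  let g0 : T.left ⟶ H.left := 𝒲.glueMorphisms _ hcompat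
  have hg0 : ∀ w, 𝒲.f w ≫ g0 = (hh w).left := fun w => 𝒲.ι_glueMorphisms _ hcompat w
  let g : T ⟶ H := Over.homMk g0 (𝒲.hom_ext _ _ fun w => by
    rw [reassoc_of% hg0 w]
    exact Over.w (hh w))
  have hg : HilbD.pull f g Z.1 = Z'.1 := eq_of_cover f 𝒲 fun w => by
    rw [pull_pull, show HilbD.coverHom T (𝒲.f w) ≫ g = hh w from Over.OverMorphism.ext (hg0 w), hhh]
  exact ⟨g, hg, fun g' hg' => huniq T g' g (hg'.trans hg.symm)⟩

end Groth.Agent.HilbDLib.RepCrit
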