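import Groth.Agent.HilbDLib.AffChart
import Groth.Agent.HilbDLib.RepCrit
import Groth.Agent.ModPairLib.Basic

/-!
# The Hilbert functor of points of an affine scheme over an affine base is representable
-/

set_option autoImplicit false
set_option backward.isDefEq.respectTransparency false
set_option linter.style.haveILetI false

universe u
open CategoryTheory CategoryTheory.Limits AlgebraicGeometry MorphismProperty TensorProduct

namespace Groth.Agent.HilbDLib.AffDict

open Module (Grassmannian)
open Groth.Agent.HilbDLib.StableLocus (Stab)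
open Groth.Agent.Synt29.RepOpen (sp spMap spMap_w spOver exists_spMap)

section Spec

variable {C D : Type u} [CommRing C] [CommRing D]

/-- The ideal of an ideal sheaf on a spectrum. -/
noncomputable def toI (K : (Spec (CommRingCat.of C)).IdealSheafData) : Ideal C :=
  (K.ideal ⟨⊤, isAffineOpen_top _⟩).comap (Scheme.ΓSpecIso (CommRingCat.of C)).inv.hom

theorem map_toI (K : (Spec (CommRingCat.of C)).IdealSheafData) :
    (toI K).map (Scheme.ΓSpecIso (CommRingCat.of C)).inv.hom = K.ideal ⟨⊤, isAffineOpen_top _⟩ :=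
  Ideal.map_comap_of_surjective _ (ConcreteCategory.bijective_of_isIso _).2 _

theorem toI_injective : Function.Injective (toI (C := C)) := fun K K' h =>
  Scheme.IdealSheafData.ext_of_isAffine (by rw [← map_toI, ← map_toI, h])

theorem toI_ker (φ : C →+* D) : toI (Spec.map (CommRingCat.ofHom φ)).ker = RingHom.ker φ := by
  have hker : (Spec.map (CommRingCat.ofHom φ)).ker.ideal ⟨⊤, isAffineOpen_top _⟩ =
      RingHom.ker ((Spec.map (CommRingCat.ofHom φ)).appTop).hom := by
    rw [Scheme.ker_of_isAffine, Scheme.IdealSheafData.ofIdealTop_ideal]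
    erw [(Spec (CommRingCat.of C)).presheaf.map_id, Ideal.map_id]
  ext x
  rw [toI, hker, Ideal.mem_comap, RingHom.mem_ker, RingHom.mem_ker]
  have hn := Scheme.ΓSpecIso_inv_naturality (CommRingCat.ofHom φ)
  have h1 : (Spec.map (CommRingCat.ofHom φ)).appTop.hom ((Scheme.ΓSpecIso (CommRingCat.of C)).inv.hom x) =
      (Scheme.ΓSpecIso (CommRingCat.of D)).inv.hom (φ x) := (congr($hn x)).symm
  rw [h1, map_eq_zero_iff _ (ConcreteCategory.bijective_of_isIso (Scheme.ΓSpecIso (CommRingCat.of D)).inv).1]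

theorem toI_comap (K : (Spec (CommRingCat.of C)).IdealSheafData) (φ : C →+* D) :
    toI (K.comap (Spec.map (CommRingCat.ofHom φ))) = (toI K).map φ := by
  have hbij := ConcreteCategory.bijective_of_isIso (Scheme.ΓSpecIso (CommRingCat.of D)).inv
  have hn : (Spec.map (CommRingCat.ofHom φ)).appTop.hom.comp (Scheme.ΓSpecIso (CommRingCat.of C)).inv.hom =
      (Scheme.ΓSpecIso (CommRingCat.of D)).inv.hom.comp φ :=
    (congrArg CommRingCat.Hom.hom (Scheme.ΓSpecIso_inv_naturality (CommRingCat.ofHom φ))).symm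
  rw [toI, ModPairLib.comap_ideal_affine, ← map_toI, Ideal.map_map, hn, ← Ideal.map_map]
  exact Ideal.comap_map_of_bijective _ hbij

theorem ker_comp_iso {P Q Q' : Scheme.{u}} (s : P ⟶ Q) [IsClosedImmersion s] (i : Q ⟶ Q') [IsIso i] :
    (s ≫ i).ker = s.ker.comap (inv i) := by
  have h : IsPullback (s ≫ i) (𝟙 P) (inv i) s := IsPullback.of_vert_isIso ⟨by simp⟩
  rw [← h.isoPullback_hom_fst, Scheme.Hom.ker_comp_of_isIso, Scheme.IdealSheafData.ker_fst_of_isClosedImmersion]

theorem isFinLocFreeOfDeg_SpecMap_iff (d : ℕ) (A Q : Type u) [CommRing A] [CommRing Q] [Algebra A Q] :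
    Mor2.IsFinLocFreeOfDeg d (Spec.map (CommRingCat.ofHom (algebraMap A Q))) ↔
      Module.Finite A Q ∧ Module.Projective A Q ∧ ∀ p, Module.rankAtStalk (R := A) Q p = d := by
  constructor
  · rintro ⟨⟨h1, h2, h3⟩, h4⟩
    have : Module.Finite A Q := RingHom.finite_algebraMap.1 ((IsFinite.SpecMap_iff _).1 h1)
    have : Module.Flat A Q := RingHom.flat_algebraMap_iff.1 (Flat.SpecMap_iff.1 h2)
    have : Algebra.FinitePresentation A Q := RingHom.finitePresentation_algebraMap.1
      ((HasRingHomProperty.Spec_iff (P := @LocallyOfFinitePresentation)).1 h3)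
    have : Module.FinitePresentation A Q := Module.FinitePresentation.of_finite_of_finitePresentation A Q
    exact ⟨‹_›, Module.Flat.projective_of_finitePresentation, fun p =>
      (Scheme.Hom.finrank_SpecMap_algebraMap A Q p).symm.trans (h4 p)⟩
  · rintro ⟨h1, h2, h3⟩
    have : Module.FinitePresentation A Q := Module.finitePresentation_of_projective _ _
    exact ⟨⟨(IsFinite.SpecMap_iff _).2 (RingHom.finite_algebraMap.2 h1),
      Flat.SpecMap_iff.2 (RingHom.flat_algebraMap_iff.2 inferInstance),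
      (HasRingHomProperty.Spec_iff (P := @LocallyOfFinitePresentation)).2
        (RingHom.finitePresentation_algebraMap.2 (Algebra.FinitePresentation.of_finitePresentation A Q))⟩,
      fun p => (Scheme.Hom.finrank_SpecMap_algebraMap A Q p).trans (h3 p)⟩

end Spec

variable {X S : Scheme.{u}} (f : X ⟶ S) {R B : Type u} [CommRing R] [CommRing B] [Algebra R B]
  (iS : S ≅ Spec (CommRingCat.of R)) (iX : X ≅ Spec (CommRingCat.of B)) (d : ℕ)
  (hf : f ≫ iS.hom = iX.hom ≫ Spec.map (CommRingCat.ofHom (algebraMap R B)))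

/-- The spectrum of an algebra over `S`. -/
noncomputable abbrev spS (A : CommAlgCat.{u} R) : Over S := Over.mk ((sp A).hom ≫ iS.inv)

/-- The map of spectra over `S`. -/
noncomputable abbrev spSMap {A A' : CommAlgCat.{u} R} (φ : A ⟶ A') : spS iS A' ⟶ spS iS A :=
  Over.homMk (spMap φ) (by
    show spMap φ ≫ (sp A).hom ≫ iS.inv = (sp A').hom ≫ iS.inv
    rw [← Category.assoc, spMap_w])

theorem exists_spSMap {A A' : CommAlgCat.{u} R} (g : spS iS A' ⟶ spS iS A) :
    ∃ φ : A ⟶ A', g = spSMap iS φ := by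
  have hw : g.left ≫ (sp A).hom = (sp A').hom := by
    have : g.left ≫ (sp A).hom ≫ iS.inv = (sp A').hom ≫ iS.inv := Over.w g
    rwa [← Category.assoc, cancel_mono] at this
  obtain ⟨φ, hφ⟩ := exists_spMap (Over.homMk g.left hw : sp A' ⟶ sp A)
  exact ⟨φ, Over.OverMorphism.ext (congrArg (fun t : sp A' ⟶ sp A => t.left) hφ :)⟩

include hf in
theorem isPullback_tensor (A : CommAlgCat.{u} R) :
    IsPullback (Spec.map (CommRingCat.ofHom (S := A ⊗[R] B) Algebra.TensorProduct.includeRight.toRingHom) ≫ iX.inv)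
      (Spec.map (CommRingCat.ofHom (S := A ⊗[R] B) Algebra.TensorProduct.includeLeftRingHom)) f (spS iS A).hom := by
  have h := (isPullback_SpecMap_of_isPushout _ _ _ _ (CommRingCat.isPushout_tensorProduct R A B)).flip
  refine h.of_iso (Iso.refl _) iX.symm (Iso.refl _) iS.symm ?_ ?_ ?_ ?_
  · simp
  · simp
  · simp only [Iso.symm_hom]
    rw [Iso.eq_inv_comp, ← Category.assoc, ← hf, Category.assoc, Iso.hom_inv_id, Category.comp_id]
  · simp

/-- `X_A` as a spectrum. -/
noncomputable def ψ (A : CommAlgCat.{u} R) : Spec (CommRingCat.of (A ⊗[R] B)) ⟶ PicF.XT f (spS iS A) :=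
  pullback.lift _ _ (isPullback_tensor f iS iX hf A).w

theorem isIso_ψ (A : CommAlgCat.{u} R) : IsIso (ψ f iS iX hf A) := by
  have : ψ f iS iX hf A = (isPullback_tensor f iS iX hf A).isoPullback.hom := by
    apply pullback.hom_ext <;> simp [ψ]
  rw [this]
  infer_instance

theorem ψ_XTproj (A : CommAlgCat.{u} R) : ψ f iS iX hf A ≫ PicF.XTproj f (spS iS A) =
    Spec.map (CommRingCat.ofHom (S := A ⊗[R] B) Algebra.TensorProduct.includeLeftRingHom) :=
  pullback.lift_snd _ _ _

theorem ψ_natural {A A' : CommAlgCat.{u} R} (φ : A ⟶ A') :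
    ψ f iS iX hf A' ≫ PicF.XTmap f (spSMap iS φ) =
      Spec.map (CommRingCat.ofHom (Algebra.TensorProduct.map φ.hom (AlgHom.id R B)).toRingHom) ≫ ψ f iS iX hf A := by
  apply pullback.hom_ext
  · simp only [ψ, PicF.XTmap, Category.assoc, pullback.lift_fst, pullback.lift_fst_assoc, Category.comp_id]
    rw [← Spec.map_comp_assoc, ← CommRingCat.ofHom_comp]
    congr 3
    refine RingHom.ext fun w => ?_
    simp
  · simp only [ψ, PicF.XTmap, Category.assoc, pullback.lift_snd, pullback.lift_snd_assoc]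
    show Spec.map _ ≫ Spec.map _ = Spec.map _ ≫ Spec.map _
    rw [← Spec.map_comp, ← Spec.map_comp, ← CommRingCat.ofHom_comp, ← CommRingCat.ofHom_comp]
    congr 2

/-- A stable submodule as an ideal. -/
def idealOf {A : Type u} [CommRing A] [Algebra R A] {N : Submodule A (A ⊗[R] B)} (h : Stab (R := R) N) :
    Ideal (A ⊗[R] B) where
  carrier := N
  add_mem' := N.add_mem
  zero_mem' := N.zero_mem
  smul_mem' r x hx := by
    show r * x ∈ N
    induction r with
    | zero => simp
    | tmul a v =>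
      rw [show a ⊗ₜ[R] v = a • ((1 : A) ⊗ₜ[R] v) by rw [smul_tmul', smul_eq_mul, mul_one],
        Algebra.smul_mul_assoc]
      exact N.smul_mem _ (h v x hx)
    | add r s hr hs => rw [add_mul]; exact N.add_mem hr hs

theorem idealOf_restrictScalars {A : Type u} [CommRing A] [Algebra R A] {N : Submodule A (A ⊗[R] B)}
    (h : Stab (R := R) N) : (idealOf h).restrictScalars A = N := rfl

theorem stab_restrictScalars {A : Type u} [CommRing A] [Algebra R A] (J : Ideal (A ⊗[R] B)) :
    Stab (R := R) (J.restrictScalars A) := fun _ _ hx => J.mul_mem_left _ hx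

/-- The ideal sheaf of a point. -/
noncomputable def sheafOf (A : CommAlgCat.{u} R) (J : Ideal (A ⊗[R] B)) :
    (PicF.XT f (spS iS A)).IdealSheafData :=
  (Spec.map (CommRingCat.ofHom (Ideal.Quotient.mk J)) ≫ ψ f iS iX hf A).ker

theorem isClosedImmersion_quot {C : Type u} [CommRing C] (J : Ideal C) :
    IsClosedImmersion (Spec.map (CommRingCat.ofHom (Ideal.Quotient.mk J))) :=
  IsClosedImmersion.spec_of_surjective _ Ideal.Quotient.mk_surjective

theorem toI_comap_sheafOf (A : CommAlgCat.{u} R) (J : Ideal (A ⊗[R] B)) :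
    toI ((sheafOf f iS iX hf A J).comap (ψ f iS iX hf A)) = J := by
  have := isIso_ψ f iS iX hf A
  have := isClosedImmersion_quot J
  rw [sheafOf, ker_comp_iso, ← Scheme.IdealSheafData.comap_comp, IsIso.hom_inv_id,
    Scheme.IdealSheafData.comap_id, toI_ker, Ideal.mk_ker]

theorem comap_ψ_injective (A : CommAlgCat.{u} R) {K K' : (PicF.XT f (spS iS A)).IdealSheafData}
    (h : toI (K.comap (ψ f iS iX hf A)) = toI (K'.comap (ψ f iS iX hf A))) : K = K' := by
  have := isIso_ψ f iS iX hf A
  have := congrArg (fun I => Scheme.IdealSheafData.comap I (inv (ψ f iS iX hf A))) (toI_injective h)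
  simpa only [← Scheme.IdealSheafData.comap_comp, IsIso.inv_hom_id, Scheme.IdealSheafData.comap_id] using this

theorem sheafOf_deg_iff (A : CommAlgCat.{u} R) (J : Ideal (A ⊗[R] B)) :
    Mor2.IsFinLocFreeOfDeg d ((sheafOf f iS iX hf A J).subschemeι ≫ PicF.XTproj f (spS iS A)) ↔
      Module.Finite A ((A ⊗[R] B) ⧸ J) ∧ Module.Projective A ((A ⊗[R] B) ⧸ J) ∧
        ∀ p, Module.rankAtStalk (R := A) ((A ⊗[R] B) ⧸ J) p = d := by
  have := isIso_ψ f iS iX hf A
  have := isClosedImmersion_quot J
  have : IsClosedImmersion (Spec.map (CommRingCat.ofHom (Ideal.Quotient.mk J)) ≫ ψ f iS iX hf A) := inferInstance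
  rw [sheafOf, finLocFreeOfDeg_ker, Category.assoc, ψ_XTproj, ← Spec.map_comp, ← CommRingCat.ofHom_comp,
    ← isFinLocFreeOfDeg_SpecMap_iff]
  rfl

/-- Points of the functor are points of the Hilbert functor. -/
noncomputable def dict (A : CommAlgCat.{u} R) : (AffChart.func R B d).obj A → HilbD.Obj f d (spS iS A) :=
  fun N => ⟨sheafOf f iS iX hf A (idealOf N.2), (sheafOf_deg_iff f iS iX d hf A _).2 <| by
    let e := Submodule.Quotient.restrictScalarsEquiv A (idealOf N.2)
    haveI : Module.Finite A ((A ⊗[R] B) ⧸ (idealOf N.2).restrictScalars A) := N.1.finite_quotient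
    haveI : Module.Projective A ((A ⊗[R] B) ⧸ (idealOf N.2).restrictScalars A) := N.1.projective_quotient
    exact ⟨Module.Finite.equiv e, Module.Projective.of_equiv e, fun p => by
      rw [← Module.rankAtStalk_eq_of_equiv e]; exact N.1.rankAtStalk_eq p⟩⟩

theorem dict_bijective (A : CommAlgCat.{u} R) : Function.Bijective (dict f iS iX d hf A) := by
  refine ⟨fun N N' h => Subtype.ext (Module.Grassmannian.ext ?_), fun Z => ?_⟩
  · have h1 := congrArg (fun Z => toI ((Subtype.val Z).comap (ψ f iS iX hf A))) h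
    simp only [dict, toI_comap_sheafOf] at h1
    exact congrArg (fun J : Ideal (A ⊗[R] B) => J.restrictScalars A) h1
  · let J := toI (Z.1.comap (ψ f iS iX hf A))
    have hZ : sheafOf f iS iX hf A J = Z.1 :=
      comap_ψ_injective f iS iX hf A (toI_comap_sheafOf f iS iX hf A J)
    obtain ⟨h1, h2, h3⟩ := (sheafOf_deg_iff f iS iX d hf A J).1 (by rw [hZ]; exact Z.2)
    let e := Submodule.Quotient.restrictScalarsEquiv A J
    let N : Grassmannian A (A ⊗[R] B) d :=
      { toSubmodule := J.restrictScalars A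
        finite_quotient := Module.Finite.equiv e.symm
        projective_quotient := Module.Projective.of_equiv e.symm
        rankAtStalk_eq := fun p => by rw [Module.rankAtStalk_eq_of_equiv e]; exact h3 p }
    refine ⟨⟨N, stab_restrictScalars J⟩, Subtype.ext ?_⟩
    exact hZ

theorem dict_natural {A A' : CommAlgCat.{u} R} (φ : A ⟶ A') (N : (AffChart.func R B d).obj A) :
    (dict f iS iX d hf A' ((AffChart.func R B d).map φ N)).1 =
      HilbD.pull f (spSMap iS φ) (dict f iS iX d hf A N).1 := by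
  refine comap_ψ_injective f iS iX hf A' ?_
  rw [pull_eq_comap, ← Scheme.IdealSheafData.comap_comp, ψ_natural, Scheme.IdealSheafData.comap_comp,
    toI_comap]
  simp only [dict, toI_comap_sheafOf]
  let χ := (Algebra.TensorProduct.map φ.hom (AlgHom.id R B)).toRingHom
  have hχ : ∀ x, χ x = GrassMod.ι φ.hom x := fun x => by
    induction x with
    | zero => simp
    | tmul a v => simp [χ, GrassMod.ι_tmul]
    | add x y hx hy => simp only [map_add, hx, hy]
  refine le_antisymm (fun z hz => ?_) (Ideal.map_le_iff_le_comap.2 fun x hx => ?_)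
  · have hz' : z ∈ (Grassmannian.map φ.hom N.1).toSubmodule := hz
    rw [GrassMod.map_eq_span] at hz'
    refine (Submodule.span_le (p := (Ideal.map χ (idealOf N.2)).restrictScalars A')).2 ?_ hz'
    rintro _ ⟨x, hx, rfl⟩
    rw [SetLike.mem_coe, Submodule.restrictScalars_mem, ← hχ]
    exact Ideal.mem_map_of_mem _ hx
  · show χ x ∈ (Grassmannian.map φ.hom N.1).toSubmodule
    rw [GrassMod.map_eq_span, hχ]
    exact Submodule.subset_span ⟨x, hx, rfl⟩

include hf iX in
theorem representable : HilbD.Representable f d := by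
  let 𝒜 := AffChart.atlas (R := R) (B := B) (d := d)
  let H : Over S := Over.mk (𝒜.glued.hom ≫ iS.inv)
  let hom : ∀ A, (spS iS A ⟶ H) ≃ (sp A ⟶ 𝒜.glued) := fun A =>
    { toFun := fun g => Over.homMk g.left (by
        have : g.left ≫ 𝒜.glued.hom ≫ iS.inv = (sp A).hom ≫ iS.inv := Over.w g
        rwa [← Category.assoc, cancel_mono] at this)
      invFun := fun g => Over.homMk g.left (by
        show g.left ≫ 𝒜.glued.hom ≫ iS.inv = (sp A).hom ≫ iS.inv
        rw [← Category.assoc, Over.w g])
      left_inv := fun g => Over.OverMorphism.ext rfl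
      right_inv := fun g => Over.OverMorphism.ext rfl }
  let E : ∀ A, (spS iS A ⟶ H) ≃ HilbD.Obj f d (spS iS A) := fun A =>
    ((hom A).trans (𝒜.classifyEquiv A)).trans (Equiv.ofBijective _ (dict_bijective f iS iX d hf A))
  have hE : ∀ {A A' : CommAlgCat.{u} R} (φ : A ⟶ A') (g : spS iS A ⟶ H),
      (E A' (spSMap iS φ ≫ g)).1 = HilbD.pull f (spSMap iS φ) (E A g).1 := fun {A A'} φ g => by
    show (dict f iS iX d hf A' (𝒜.classifyEquiv A' (hom A' (spSMap iS φ ≫ g)))).1 = _
    rw [show hom A' (spSMap iS φ ≫ g) = spOver φ ≫ hom A g from Over.OverMorphism.ext rfl,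
      𝒜.isNat_classifyEquiv A A' φ, dict_natural]
    rfl
  let alg : Over S → CommAlgCat.{u} R := fun T =>
    @CommAlgCat.of R _ Γ(T.left, ⊤) _
      ((Scheme.ΓSpecIso (CommRingCat.of R)).inv ≫ (T.hom ≫ iS.hom).appTop).hom.toAlgebra
  have hσ : ∀ T : Over S, IsAffine T.left → Nonempty (T ≅ spS iS (alg T)) := fun T hT => by
    haveI := hT
    refine ⟨Over.isoMk T.left.isoSpec ?_⟩
    show T.left.isoSpec.hom ≫ Spec.map ((Scheme.ΓSpecIso (CommRingCat.of R)).inv ≫ (T.hom ≫ iS.hom).appTop) ≫ iS.inv = T.hom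
    rw [Spec.map_comp, Category.assoc, ← Category.assoc T.left.isoSpec.hom,
      Scheme.isoSpec_hom_naturality, Category.assoc, Scheme.isoSpec_Spec_hom, ← Spec.map_comp_assoc,
      Iso.inv_hom_id, Spec.map_id, Category.id_comp, Category.assoc, Iso.hom_inv_id, Category.comp_id]
  let σ := fun (T : Over S) (hT : IsAffine T.left) => (hσ T hT).some
  let e : ∀ T : Over S, IsAffine T.left → ((T ⟶ H) ≃ HilbD.Obj f d T) := fun T hT =>
    ((Iso.homFromEquiv (σ T hT)).trans (E (alg T))).trans
      { toFun := RepCrit.pullObj f d (σ T hT).hom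
        invFun := RepCrit.pullObj f d (σ T hT).inv
        left_inv := fun Z => Subtype.ext (by simp [RepCrit.pullObj, pull_pull, pull_id])
        right_inv := fun Z => Subtype.ext (by simp [RepCrit.pullObj, pull_pull, pull_id]) }
  refine RepCrit.representable_of_affine f d H e fun T T' hT hT' h g => ?_
  show HilbD.pull f (σ T' hT').hom (E (alg T') ((σ T' hT').inv ≫ h ≫ g)).1 =
    HilbD.pull f h (HilbD.pull f (σ T hT).hom (E (alg T) ((σ T hT).inv ≫ g)).1)
  obtain ⟨φ, hφ⟩ := exists_spSMap iS ((σ T' hT').inv ≫ h ≫ (σ T hT).hom)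
  have e1 : (σ T' hT').inv ≫ h ≫ g = spSMap iS φ ≫ (σ T hT).inv ≫ g := by
    rw [← hφ]; simp only [Category.assoc, Iso.hom_inv_id_assoc]
  rw [e1, hE, pull_pull, pull_pull, ← hφ, Iso.hom_inv_id_assoc]

end Groth.Agent.HilbDLib.AffDict
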