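import Groth.Agent.HilbDLib.RepCrit

/-!
# The open subfunctors of the Hilbert functor given by opens of `X` and `S`
-/

set_option autoImplicit false
set_option backward.isDefEq.respectTransparency false
set_option linter.style.haveILetI false
set_option maxHeartbeats 400000

universe u
open CategoryTheory CategoryTheory.Limits AlgebraicGeometry MorphismProperty

namespace Groth.Agent.HilbDLib.OpenSub

open Groth.Agent.HilbDLib.RepCrit (pullObj)

variable {X S : Scheme.{u}} (f : X ⟶ S) (d : ℕ) (V : S.Opens) (U : X.Opens)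

/-- The closed subscheme lies over `U`. -/
def Supp (T : Over S) (K : (PicF.XT f T).IdealSheafData) : Prop :=
  ∀ x ∈ (K.support : Set (PicF.XT f T)), pullback.fst f T.hom x ∈ U

/-- The closed subscheme lies over `U` and over `V` at the point `t`. -/
def Good (T : Over S) (K : (PicF.XT f T).IdealSheafData) (t : T.left) : Prop :=
  T.hom t ∈ V ∧ ∀ x ∈ (K.support : Set (PicF.XT f T)), PicF.XTproj f T x = t → pullback.fst f T.hom x ∈ U

theorem XTmap_fst {T T' : Over S} (a : T' ⟶ T) (x : PicF.XT f T') :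
    pullback.fst f T.hom (PicF.XTmap f a x) = pullback.fst f T'.hom x := by
  rw [← Scheme.Hom.comp_apply, show PicF.XTmap f a ≫ pullback.fst f T.hom = pullback.fst f T'.hom by
    simp only [PicF.XTmap, pullback.lift_fst, Category.comp_id]]

theorem mem_support_pull {T T' : Over S} (a : T' ⟶ T) (K : (PicF.XT f T).IdealSheafData) (x : PicF.XT f T') :
    x ∈ ((HilbD.pull f a K).support : Set (PicF.XT f T')) ↔
      PicF.XTmap f a x ∈ (K.support : Set (PicF.XT f T)) := by
  rw [pull_eq_comap, Scheme.IdealSheafData.support_comap]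
  rfl

theorem good_pull_iff {T T' : Over S} (a : T' ⟶ T) (K : (PicF.XT f T).IdealSheafData) (t : T'.left) :
    Good f V U T' (HilbD.pull f a K) t ↔ Good f V U T K (a.left t) := by
  have h1 : T.hom (a.left t) = T'.hom t := by rw [← Scheme.Hom.comp_apply, Over.w a]
  have hw := isPullback_XTmap f a
  constructor
  · rintro ⟨hV, h⟩
    refine ⟨h1 ▸ hV, fun x hx hxt => ?_⟩
    obtain ⟨x', hx', hx''⟩ := Scheme.exists_preimage_of_isPullback hw x t hxt
    rw [← hx', XTmap_fst]
    exact h x' ((mem_support_pull f a K x').2 (by rw [hx']; exact hx)) hx''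
  · rintro ⟨hV, h⟩
    refine ⟨h1 ▸ hV, fun x hx hxt => ?_⟩
    rw [← XTmap_fst f a]
    refine h _ ((mem_support_pull f a K x).1 hx) ?_
    rw [← Scheme.Hom.comp_apply, hw.w, Scheme.Hom.comp_apply, hxt]

theorem supp_of_forall_good {T : Over S} {K : (PicF.XT f T).IdealSheafData}
    (h : ∀ t, Good f V U T K t) : Supp f U T K := fun x hx => (h _).2 x hx rfl

theorem supp_pull {T T' : Over S} (a : T' ⟶ T) {K : (PicF.XT f T).IdealSheafData} (h : Supp f U T K) :
    Supp f U T' (HilbD.pull f a K) := fun x hx => by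
  rw [← XTmap_fst f a]
  exact h _ ((mem_support_pull f a K x).1 hx)

theorem isOpen_good (T : Over S) (Z : HilbD.Obj f d T) : IsOpen {t : T.left | Good f V U T Z.1 t} := by
  let π := Z.1.subschemeι ≫ PicF.XTproj f T
  haveI : IsFinite π := Z.2.1.1
  have h : {t : T.left | Good f V U T Z.1 t} = (T.hom ⁻¹ᵁ V : Set T.left) ∩
      (π '' ((Z.1.subschemeι ≫ pullback.fst f T.hom) ⁻¹ᵁ U : Set Z.1.subscheme)ᶜ)ᶜ := by
    ext t
    refine and_congr_right fun _ => ⟨fun h => ?_, fun h x hx hxt => ?_⟩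
    · rintro ⟨z, hz, hzt⟩
      refine hz (h (Z.1.subschemeι z) ?_ hzt)
      rw [← Scheme.IdealSheafData.range_subschemeι]
      exact ⟨z, rfl⟩
    · rw [← Scheme.IdealSheafData.range_subschemeι] at hx
      obtain ⟨z, rfl⟩ := hx
      by_contra hcon
      exact h ⟨z, hcon, hxt⟩
  rw [h]
  exact (T.hom ⁻¹ᵁ V).isOpen.inter
    (π.isClosedMap _ ((Z.1.subschemeι ≫ pullback.fst f T.hom) ⁻¹ᵁ U).isOpen.isClosed_compl).isOpen_compl

theorem comap_ker_comp_mono {P Q Q' : Scheme.{u}} (s : P ⟶ Q) (j : Q ⟶ Q') [Mono j] [IsClosedImmersion (s ≫ j)] :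
    (s ≫ j).ker.comap j = s.ker := by
  have h2 : IsPullback (𝟙 P) s s (𝟙 Q) := IsPullback.of_horiz_isIso ⟨by simp⟩
  have h := (h2.paste_vert (IsKernelPair.id_of_mono j)).flip
  rw [Category.comp_id] at h
  rw [← Scheme.IdealSheafData.ker_fst_of_isClosedImmersion]
  conv_rhs => rw [← h.isoPullback_hom_fst]
  rw [Scheme.Hom.ker_comp_of_isIso]

theorem ker_ker_comp {P Q Q' : Scheme.{u}} (s : P ⟶ Q) [IsClosedImmersion s] (j : Q ⟶ Q') :
    (s.ker.subschemeι ≫ j).ker = (s ≫ j).ker := by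
  have e : s.toImage ≫ (s.ker.subschemeι ≫ j) = s ≫ j := by
    rw [← Category.assoc]
    exact congrArg (· ≫ j) (Scheme.Hom.toImage_imageι s)
  exact (Scheme.Hom.ker_comp_of_isIso s.toImage _).symm.trans (congrArg Scheme.Hom.ker e)

variable (e : U ≤ f ⁻¹ᵁ V)

/-- The restriction. -/
noncomputable abbrev fres : (U : Scheme.{u}) ⟶ (V : Scheme.{u}) := f.resLE V U e

/-- An object over `V` as an object over `S`. -/
abbrev push (Tv : Over (V : Scheme.{u})) : Over S := Over.mk (Tv.hom ≫ V.ι)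

/-- A morphism over `V` as a morphism over `S`. -/
abbrev pushHom {Tv Tv' : Over (V : Scheme.{u})} (m : Tv' ⟶ Tv) : push V Tv' ⟶ push V Tv :=
  Over.homMk m.left (by
    show m.left ≫ Tv.hom ≫ V.ι = Tv'.hom ≫ V.ι
    rw [← Category.assoc, Over.w m])

/-- `U_T ⟶ X_T`. -/
noncomputable def jj (Tv : Over (V : Scheme.{u})) : PicF.XT (fres f V U e) Tv ⟶ PicF.XT f (push V Tv) :=
  pullback.map (fres f V U e) Tv.hom f (Tv.hom ≫ V.ι) U.ι (𝟙 _) V.ι (Scheme.Hom.resLE_comp_ι f e)
    (Category.id_comp _).symm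

theorem jj_fst (Tv : Over (V : Scheme.{u})) :
    jj f V U e Tv ≫ pullback.fst f (push V Tv).hom = pullback.fst (fres f V U e) Tv.hom ≫ U.ι :=
  pullback.lift_fst _ _ _

theorem jj_proj (Tv : Over (V : Scheme.{u})) :
    jj f V U e Tv ≫ PicF.XTproj f (push V Tv) = PicF.XTproj (fres f V U e) Tv :=
  (pullback.lift_snd _ _ _).trans (Category.comp_id _)

instance mono_jj (Tv : Over (V : Scheme.{u})) : Mono (jj f V U e Tv) := by
  refine ⟨fun a b h => ?_⟩
  apply pullback.hom_ext
  · rw [← cancel_mono U.ι, Category.assoc, Category.assoc, ← jj_fst, reassoc_of% h]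
  · have := congrArg (· ≫ PicF.XTproj f (push V Tv)) h
    simp only [Category.assoc, jj_proj] at this
    exact this

theorem jj_natural {Tv Tv' : Over (V : Scheme.{u})} (m : Tv' ⟶ Tv) :
    PicF.XTmap (fres f V U e) m ≫ jj f V U e Tv = jj f V U e Tv' ≫ PicF.XTmap f (pushHom V m) := by
  apply pullback.hom_ext <;>
    simp [jj, PicF.XTmap, pullback.map]

theorem comap_jj_pull {Tv Tv' : Over (V : Scheme.{u})} (m : Tv' ⟶ Tv) (K : (PicF.XT f (push V Tv)).IdealSheafData) :
    (HilbD.pull f (pushHom V m) K).comap (jj f V U e Tv') =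
      HilbD.pull (fres f V U e) m (K.comap (jj f V U e Tv)) := by
  rw [pull_eq_comap, pull_eq_comap, ← Scheme.IdealSheafData.comap_comp, ← Scheme.IdealSheafData.comap_comp,
    jj_natural]

theorem supp_range (Tv : Over (V : Scheme.{u})) (x : PicF.XT (fres f V U e) Tv) :
    pullback.fst f (push V Tv).hom (jj f V U e Tv x) ∈ U := by
  rw [← Scheme.Hom.comp_apply, jj_fst, Scheme.Hom.comp_apply]
  exact (pullback.fst (fres f V U e) Tv.hom x).2

theorem exists_lift (Tv : Over (V : Scheme.{u})) {K : (PicF.XT f (push V Tv)).IdealSheafData}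
    (h : Supp f U (push V Tv) K) :
    ∃ l : K.subscheme ⟶ PicF.XT (fres f V U e) Tv, l ≫ jj f V U e Tv = K.subschemeι := by
  let q := K.subschemeι ≫ pullback.fst f (push V Tv).hom
  have hr : Set.range q ⊆ Set.range U.ι := by
    rintro _ ⟨z, rfl⟩
    rw [Scheme.Opens.range_ι]
    refine h _ ?_
    rw [← Scheme.IdealSheafData.range_subschemeι]
    exact ⟨z, rfl⟩
  let qU := IsOpenImmersion.lift U.ι q hr
  have hq : qU ≫ U.ι = q := IsOpenImmersion.lift_fac _ _ _
  have hw : qU ≫ fres f V U e = (K.subschemeι ≫ PicF.XTproj f (push V Tv)) ≫ Tv.hom := by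
    rw [← cancel_mono V.ι, Category.assoc, Scheme.Hom.resLE_comp_ι, reassoc_of% hq]
    show (K.subschemeι ≫ pullback.fst f (push V Tv).hom) ≫ f = _
    simp only [Category.assoc, pullback.condition]
    rfl
  refine ⟨pullback.lift qU (K.subschemeι ≫ PicF.XTproj f (push V Tv)) hw, ?_⟩
  apply pullback.hom_ext
  · rw [Category.assoc, jj_fst, pullback.lift_fst_assoc, hq]
  · rw [Category.assoc]
    show _ ≫ jj f V U e Tv ≫ PicF.XTproj f (push V Tv) = _
    rw [jj_proj]
    exact pullback.lift_snd _ _ _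

theorem eq_of_comap_jj (Tv : Over (V : Scheme.{u})) {K K' : (PicF.XT f (push V Tv)).IdealSheafData}
    (h : Supp f U (push V Tv) K) (h' : Supp f U (push V Tv) K')
    (he : K.comap (jj f V U e Tv) = K'.comap (jj f V U e Tv)) : K = K' := by
  have key : ∀ {K : (PicF.XT f (push V Tv)).IdealSheafData}, Supp f U (push V Tv) K →
      ((K.comap (jj f V U e Tv)).subschemeι ≫ jj f V U e Tv).ker = K := fun {K} h => by
    obtain ⟨l, hl⟩ := exists_lift f V U e Tv h
    haveI : IsClosedImmersion (l ≫ jj f V U e Tv) := by rw [hl]; infer_instance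
    haveI : IsClosedImmersion l := IsClosedImmersion.of_comp l (jj f V U e Tv)
    have : K.comap (jj f V U e Tv) = l.ker := by
      conv_lhs => rw [← Scheme.IdealSheafData.ker_subschemeι K]
      simp only [← hl]
      exact comap_ker_comp_mono l _
    rw [this, ker_ker_comp, hl, Scheme.IdealSheafData.ker_subschemeι]
  rw [← key h, ← key h', he]

theorem deg_toU (Tv : Over (V : Scheme.{u})) {K : (PicF.XT f (push V Tv)).IdealSheafData}
    (hK : Mor2.IsFinLocFreeOfDeg d (K.subschemeι ≫ PicF.XTproj f (push V Tv))) (h : Supp f U (push V Tv) K) :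
    Mor2.IsFinLocFreeOfDeg d ((K.comap (jj f V U e Tv)).subschemeι ≫ PicF.XTproj (fres f V U e) Tv) := by
  obtain ⟨l, hl⟩ := exists_lift f V U e Tv h
  haveI : IsClosedImmersion (l ≫ jj f V U e Tv) := by rw [hl]; infer_instance
  haveI : IsClosedImmersion l := IsClosedImmersion.of_comp l (jj f V U e Tv)
  have : K.comap (jj f V U e Tv) = l.ker := by
    conv_lhs => rw [← Scheme.IdealSheafData.ker_subschemeι K]
    simp only [← hl]
    exact comap_ker_comp_mono l _
  rw [this, finLocFreeOfDeg_ker, ← jj_proj, ← Category.assoc, hl]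
  exact hK

/-- The points of the restricted functor as points of the functor. -/
theorem exists_fromU [IsSeparated f] (Tv : Over (V : Scheme.{u})) (Z : HilbD.Obj (fres f V U e) d Tv) :
    ∃ Z' : HilbD.Obj f d (push V Tv), Supp f U (push V Tv) Z'.1 ∧ Z'.1.comap (jj f V U e Tv) = Z.1 := by
  let s := Z.1.subschemeι
  haveI : IsSeparated (PicF.XTproj f (push V Tv)) :=
    inferInstanceAs (IsSeparated (pullback.snd f (push V Tv).hom))
  haveI : IsFinite ((s ≫ jj f V U e Tv) ≫ PicF.XTproj f (push V Tv)) := by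
    rw [Category.assoc, jj_proj]
    exact Z.2.1.1
  haveI : IsFinite (s ≫ jj f V U e Tv) := IsFinite.of_comp _ (PicF.XTproj f (push V Tv))
  haveI : IsClosedImmersion (s ≫ jj f V U e Tv) :=
    (IsClosedImmersion.iff_isFinite_and_mono _).2 ⟨inferInstance, inferInstance⟩
  refine ⟨⟨(s ≫ jj f V U e Tv).ker, ?_⟩, fun x hx => ?_, ?_⟩
  · rw [finLocFreeOfDeg_ker, Category.assoc, jj_proj]
    exact Z.2
  · rw [← Scheme.IdealSheafData.range_subschemeι] at hx
    obtain ⟨z, rfl⟩ := hx
    obtain ⟨w, rfl⟩ := (s ≫ jj f V U e Tv).toImage.surjective z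
    rw [← Scheme.Hom.comp_apply _ (s ≫ jj f V U e Tv).ker.subschemeι]
    erw [Scheme.Hom.toImage_imageι]
    rw [Scheme.Hom.comp_apply]
    exact supp_range f V U e Tv _
  · show (s ≫ jj f V U e Tv).ker.comap _ = _
    rw [comap_ker_comp_mono, Scheme.IdealSheafData.ker_subschemeι]

/-- The open subfunctor attached to `U` and `V` is representable when `Hilb^d_{U/V}` is. -/
theorem exists_chart [IsSeparated f] (h : HilbD.Representable (fres f V U e) d) :
    ∃ (H : Over S) (Z : HilbD.Obj f d H),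
      (∀ (T : Over S) (Z₀ : HilbD.Obj f d T) (T' : Over S) (a : T' ⟶ T),
        (∃ g : T' ⟶ H, HilbD.pull f g Z.1 = HilbD.pull f a Z₀.1) ↔
          Set.range a.left ⊆ {t | Good f V U T Z₀.1 t}) ∧
      ∀ (T : Over S) (g g' : T ⟶ H), HilbD.pull f g Z.1 = HilbD.pull f g' Z.1 → g = g' := by
  obtain ⟨H₁, Z₁, hZ₁⟩ := h
  obtain ⟨Z, hZs, hZc⟩ := exists_fromU f d V U e H₁ Z₁
  refine ⟨push V H₁, Z, fun T Z₀ T' a => ⟨?_, fun hr => ?_⟩, fun T g g' hg => ?_⟩
  · rintro ⟨g, hg⟩ _ ⟨t, rfl⟩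
    show Good f V U T Z₀.1 (a.left t)
    rw [← good_pull_iff, ← hg, good_pull_iff]
    refine ⟨?_, fun x hx _ => hZs x hx⟩
    show (H₁.hom ≫ V.ι) _ ∈ V
    rw [Scheme.Hom.comp_apply]
    exact (H₁.hom (g.left t)).2
  · have hgood : ∀ t, Good f V U T' (HilbD.pull f a Z₀.1) t := fun t =>
      (good_pull_iff f V U a Z₀.1 t).2 (hr ⟨t, rfl⟩)
    have hrV : Set.range T'.hom ⊆ Set.range V.ι := by
      rw [Scheme.Opens.range_ι]
      rintro _ ⟨t, rfl⟩
      exact (hgood t).1
    let Tv : Over (V : Scheme.{u}) := Over.mk (IsOpenImmersion.lift V.ι T'.hom hrV)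
    have hTv : Tv.hom ≫ V.ι = T'.hom := IsOpenImmersion.lift_fac _ _ _
    let w : push V Tv ⟶ T' := Over.homMk (𝟙 _) ((Category.id_comp _).trans hTv.symm)
    let w' : T' ⟶ push V Tv := Over.homMk (𝟙 _) ((Category.id_comp _).trans hTv)
    let K := pullObj f d w (pullObj f d a Z₀)
    have hK : Supp f U (push V Tv) K.1 := supp_pull f U w (supp_of_forall_good f V U hgood)
    obtain ⟨g₁, hg₁, -⟩ := hZ₁ Tv ⟨K.1.comap (jj f V U e Tv), deg_toU f d V U e Tv K.2 hK⟩
    have hK' : HilbD.pull f (pushHom V g₁) Z.1 = K.1 := by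
      refine eq_of_comap_jj f V U e Tv (supp_pull f U _ hZs) hK ?_
      rw [comap_jj_pull, hZc]
      exact hg₁
    refine ⟨w' ≫ pushHom V g₁, ?_⟩
    rw [← pull_pull, hK']
    show HilbD.pull f w' (HilbD.pull f w (HilbD.pull f a Z₀.1)) = _
    rw [pull_pull, show w' ≫ w = 𝟙 _ from Over.OverMorphism.ext (Category.id_comp _), pull_id]
  · have hT : g.left ≫ H₁.hom ≫ V.ι = T.hom := Over.w g
    have hT' : g'.left ≫ H₁.hom ≫ V.ι = T.hom := Over.w g'
    let Tv : Over (V : Scheme.{u}) := Over.mk (g.left ≫ H₁.hom)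
    let w : push V Tv ⟶ T := Over.homMk (𝟙 _) (by
      show 𝟙 _ ≫ T.hom = (g.left ≫ H₁.hom) ≫ V.ι
      rw [Category.id_comp, Category.assoc, hT])
    let g₁ : Tv ⟶ H₁ := Over.homMk g.left rfl
    let g₁' : Tv ⟶ H₁ := Over.homMk g'.left (by
      show g'.left ≫ H₁.hom = g.left ≫ H₁.hom
      rw [← cancel_mono V.ι, Category.assoc, Category.assoc, hT, hT'])
    have h1 : pushHom V g₁ = w ≫ g := Over.OverMorphism.ext (Category.id_comp _).symm
    have h2 : pushHom V g₁' = w ≫ g' := Over.OverMorphism.ext (Category.id_comp _).symm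
    have h3 : HilbD.pull (fres f V U e) g₁ Z₁.1 = HilbD.pull (fres f V U e) g₁' Z₁.1 := by
      rw [← hZc, ← comap_jj_pull, ← comap_jj_pull, h1, h2, ← pull_pull, ← pull_pull, hg]
    have := (hZ₁ Tv (pullObj (fres f V U e) d g₁ Z₁)).unique rfl h3.symm
    exact Over.OverMorphism.ext (congrArg CommaMorphism.left this :)

end Groth.Agent.HilbDLib.OpenSub
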