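import Groth.Agent.HilbDLib.OpenRep
import Groth.Agent.HilbDLib.OpenSub
import Groth.Agent.HilbDLib.AffDict
import Groth.Agent.MorLib.BddFib
import Groth.Agent.GrpdLib.InvOpen

/-!
# The affine charts cover the Hilbert functor of points
-/

set_option autoImplicit false
set_option backward.isDefEq.respectTransparency false
set_option linter.style.haveILetI false

universe u
open CategoryTheory CategoryTheory.Limits AlgebraicGeometry MorphismProperty

namespace Groth.Agent.HilbDLib.Cover

open Groth.Agent.HilbDLib.OpenSub (Good)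

variable {X S : Scheme.{u}} (f : X ⟶ S) (d : ℕ)

/-- The points of `X` of a family over one point: at most `d`. -/
theorem exists_points (T : Over S) (Z : HilbD.Obj f d T) (t : T.left) :
    ∃ O : Set X, O.Finite ∧ O.ncard ≤ d ∧
      ∀ x ∈ (Z.1.support : Set (PicF.XT f T)), PicF.XTproj f T x = t → pullback.fst f T.hom x ∈ O ∧
        f (pullback.fst f T.hom x) = T.hom t := by
  let π := Z.1.subschemeι ≫ PicF.XTproj f T
  let F := pullback π (T.left.fromSpecResidueField t)
  obtain ⟨hfin, hcard⟩ := MorLib.BF.natCard_pullback_le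
    (MorLib.BF.fibreDegLE_of_isFinLocFreeOfDeg (f := π) Z.2) (T.left.residueField t) (T.left.fromSpecResidueField t)
  let q : F → X := fun z => pullback.fst f T.hom (Z.1.subschemeι (pullback.fst π (T.left.fromSpecResidueField t) z))
  refine ⟨Set.range q, Set.finite_range q, ?_, fun x hx hxt => ⟨?_, ?_⟩⟩
  · rw [← Nat.card_coe_set_eq]
    exact (Finite.card_range_le q).trans hcard
  · rw [← Scheme.IdealSheafData.range_subschemeι] at hx
    obtain ⟨y, rfl⟩ := hx
    have : y ∈ Set.range (pullback.fst π (T.left.fromSpecResidueField t)) := by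
      rw [Scheme.Pullback.range_fst, Scheme.range_fromSpecResidueField]
      exact hxt
    obtain ⟨z, hz⟩ := this
    exact ⟨z, by simp only [q, hz]⟩
  · rw [← hxt, ← Scheme.Hom.comp_apply, ← Scheme.Hom.comp_apply, pullback.condition]

/-- Representability from affine charts. -/
theorem representable_of_fibre_points [IsSeparated f]
    (h : ∀ (s : S) (x : Fin d → X), (∀ i, f.base (x i) = s) → ∃ U : X.Opens, IsAffineOpen U ∧ ∀ i, x i ∈ U)
    (haff : ∀ {X' S' : Scheme.{u}} [IsAffine X'] [IsAffine S'] (f' : X' ⟶ S'), HilbD.Representable f' d) :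
    HilbD.Representable f d := by
  let ι := Σ V : S.affineOpens, {U : X.affineOpens // U.1 ≤ f ⁻¹ᵁ V.1}
  have hch : ∀ i : ι, ∃ (H : Over S) (Z : HilbD.Obj f d H),
      (∀ (T : Over S) (Z₀ : HilbD.Obj f d T) (T' : Over S) (a : T' ⟶ T),
        (∃ g : T' ⟶ H, HilbD.pull f g Z.1 = HilbD.pull f a Z₀.1) ↔
          Set.range a.left ⊆ {t | Good f i.1.1 i.2.1.1 T Z₀.1 t}) ∧
      ∀ (T : Over S) (g g' : T ⟶ H), HilbD.pull f g Z.1 = HilbD.pull f g' Z.1 → g = g' := fun i => by
    haveI : IsAffine (i.2.1.1 : Scheme.{u}) := i.2.1.2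
    haveI : IsAffine (i.1.1 : Scheme.{u}) := i.1.2
    exact OpenSub.exists_chart f d i.1.1 i.2.1.1 i.2.2 (haff _)
  choose H Z hW hmono using hch
  refine OpenRep.representable_of_openCover f d H Z
    (fun T Z₀ i => ⟨_, OpenSub.isOpen_good f d i.1.1 i.2.1.1 T Z₀⟩) hW hmono fun T Z₀ t => ?_
  obtain ⟨O, hOfin, hOcard, hO⟩ := exists_points f d T Z₀ t
  obtain ⟨V, hV, hsV, -⟩ := exists_isAffineOpen_mem_and_subset (x := T.hom t) (U := ⊤) trivial
  -- the points over the point
  let O' := O ∩ {x | f x = T.hom t}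
  have hO'fin : O'.Finite := hOfin.inter_of_left _
  have hO'card : O'.ncard ≤ d := (Set.ncard_le_ncard Set.inter_subset_left hOfin).trans hOcard
  obtain ⟨U, hU, hOU, hUV⟩ : ∃ U : X.Opens, IsAffineOpen U ∧ O' ⊆ U ∧ U ≤ f ⁻¹ᵁ V := by
    rcases Set.eq_empty_or_nonempty O' with he | ⟨x₀, hx₀⟩
    · exact ⟨⊥, isAffineOpen_bot X, by rw [he]; exact Set.empty_subset _, bot_le⟩
    · classical
      haveI := hO'fin.fintype
      have hc : Fintype.card O' ≤ Fintype.card (Fin d) := by
        rw [Fintype.card_fin, ← Nat.card_eq_fintype_card, Nat.card_coe_set_eq]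
        exact hO'card
      obtain ⟨em⟩ := Function.Embedding.nonempty_of_card_le hc
      let x : Fin d → X := fun i => if h : ∃ o : O', em o = i then h.choose.1 else x₀
      have hx : ∀ i, x i ∈ O' := fun i => by
        simp only [x]
        split_ifs with h
        · exact h.choose.2
        · exact hx₀
      obtain ⟨U, hU, hxU⟩ := h (T.hom t) x fun i => (hx i).2
      have hOU : O' ⊆ U := fun o ho => by
        have hex : ∃ o' : O', em o' = em ⟨o, ho⟩ := ⟨⟨o, ho⟩, rfl⟩
        have := hxU (em ⟨o, ho⟩)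
        simp only [x, dif_pos hex] at this
        rwa [em.injective hex.choose_spec] at this
      obtain ⟨g, hg, hgle⟩ := GrpdLib.exists_basicOpen_of_finite hU hO'fin (f ⁻¹ᵁ V) hOU fun o ho => by
        show f o ∈ V
        rw [show f o = T.hom t from ho.2]
        exact hsV
      exact ⟨X.basicOpen g, hU.basicOpen g, hg, hgle⟩
  refine ⟨⟨⟨V, hV⟩, ⟨⟨U, hU⟩, hUV⟩⟩, hsV, fun x hx hxt => hOU ?_⟩
  exact hO x hx hxt

end Groth.Agent.HilbDLib.Cover
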