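import Groth.Agent.HilbDLib.Diagonal
import Groth.Agent.GrpSchLib.WeilClosed
import Groth.Agent.GrpSchLib.CoincidenceBase

/-!
# The locus where two finite flat families of subschemes agree
-/

set_option autoImplicit false
set_option linter.style.haveILetI false

universe u
open CategoryTheory CategoryTheory.Limits AlgebraicGeometry

namespace Groth.Agent.HilbDLib

/-- A finite locally free morphism has universal ideals. -/
theorem hasIdeals_of_finLocFree {P E Y : Scheme.{u}} (π : P ⟶ Y) [IsFinite π] [Flat π]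
    [LocallyOfFinitePresentation π] (i : E ⟶ P) [IsClosedImmersion i] : GrpSchLib.HasIdeals π i := by
  intro U
  have h1 : (π.app U.1).hom.Flat := by
    rw [Scheme.Hom.app_eq_appLE]
    exact HasRingHomProperty.appLE @Flat π inferInstance U ⟨_, U.2.preimage π⟩ _
  have h2 : (π.app U.1).hom.FinitePresentation := by
    rw [Scheme.Hom.app_eq_appLE]
    exact HasRingHomProperty.appLE @LocallyOfFinitePresentation π inferInstance U ⟨_, U.2.preimage π⟩ _
  have h3 : (π.app U.1).hom.Finite := π.finite_app U.1 U.2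
  algebraize [(π.app U.1).hom]
  have : Module.FinitePresentation Γ(Y, U) Γ(P, π ⁻¹ᵁ U) :=
    Module.FinitePresentation.of_finite_of_finitePresentation _ _
  haveI : Module.Projective Γ(Y, U) Γ(P, π ⁻¹ᵁ U) := Module.Flat.projective_of_finitePresentation
  have hsq : IsPullback (Spec.map (CommRingCat.ofHom (algebraMap Γ(Y, U) Γ(P, π ⁻¹ᵁ U))))
      (U.2.preimage π).fromSpec U.2.fromSpec π := by
    refine IsOpenImmersion.isPullback _ _ _ _ ?_ ?_
    · rw [RingHom.algebraMap_toAlgebra, CommRingCat.ofHom_hom, Scheme.Hom.app_eq_appLE,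
        IsAffineOpen.SpecMap_appLE_fromSpec]
    · rw [IsAffineOpen.opensRange_fromSpec, IsAffineOpen.opensRange_fromSpec]
  exact GrpSchLib.hasIdeal_of_charts U.2.fromSpec (fun _ : PUnit.{u + 1} => Γ(P, π ⁻¹ᵁ U))
    (fun _ => hsq.isoPullback.hom) (fun _ => hsq.isoPullback_hom_fst)
    fun x => ⟨⟨⟩, hsq.isoPullback.inv x, by rw [← Scheme.Hom.comp_apply, Iso.inv_hom_id]; rfl⟩

variable {X S : Scheme.{u}} (f : X ⟶ S)

theorem XTmap_comp {T T' T'' : Over S} (g : T'' ⟶ T') (g' : T' ⟶ T) :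
    PicF.XTmap f (g ≫ g') = PicF.XTmap f g ≫ PicF.XTmap f g' := by
  apply pullback.hom_ext
  · simp only [PicF.XTmap, pullback.map, Category.assoc, pullback.lift_fst, pullback.lift_fst_assoc,
      Category.comp_id]
  · simp only [PicF.XTmap, pullback.map, Category.assoc, pullback.lift_snd, pullback.lift_snd_assoc,
      Over.comp_left]

theorem pull_pull {T T' T'' : Over S} (g : T'' ⟶ T') (g' : T' ⟶ T) (I : (PicF.XT f T).IdealSheafData) :
    HilbD.pull f g (HilbD.pull f g' I) = HilbD.pull f (g ≫ g') I := by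
  simp only [pull_eq_comap, XTmap_comp, Scheme.IdealSheafData.comap_comp]

theorem isFinLocFree_pull {T T' : Over S} (g : T' ⟶ T) (I : (PicF.XT f T).IdealSheafData)
    (hI : Mor2.IsFinLocFree (I.subschemeι ≫ PicF.XTproj f T)) :
    Mor2.IsFinLocFree ((HilbD.pull f g I).subschemeι ≫ PicF.XTproj f T') := by
  obtain ⟨hfin, hfl, hfp⟩ := hI
  have H := (IsPullback.of_hasPullback (PicF.XTmap f g) I.subschemeι).flip.paste_vert (isPullback_XTmap f g)
  have key : (HilbD.pull f g I).subschemeι ≫ PicF.XTproj f T' =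
      (eqToHom (by rw [pull_eq_comap]) ≫ (I.comapIso (PicF.XTmap f g)).hom) ≫
        pullback.fst (PicF.XTmap f g) I.subschemeι ≫ PicF.XTproj f T' := by
    generalize HilbD.pull f g I = J, pull_eq_comap f g I = hJ
    subst hJ
    simp
  have c1 : IsFinite (pullback.fst (PicF.XTmap f g) I.subschemeι ≫ PicF.XTproj f T') :=
    MorphismProperty.of_isPullback (P := @IsFinite) H inferInstance
  have c2 : Flat (pullback.fst (PicF.XTmap f g) I.subschemeι ≫ PicF.XTproj f T') :=
    MorphismProperty.of_isPullback (P := @Flat) H inferInstance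
  have c3 : LocallyOfFinitePresentation (pullback.fst (PicF.XTmap f g) I.subschemeι ≫ PicF.XTproj f T') :=
    MorphismProperty.of_isPullback (P := @LocallyOfFinitePresentation) H inferInstance
  rw [key]
  exact ⟨inferInstance, inferInstance, inferInstance⟩

theorem isFinLocFreeOfDeg_pull {d : ℕ} {T T' : Over S} (g : T' ⟶ T) (I : (PicF.XT f T).IdealSheafData)
    (hI : Mor2.IsFinLocFreeOfDeg d (I.subschemeι ≫ PicF.XTproj f T)) :
    Mor2.IsFinLocFreeOfDeg d ((HilbD.pull f g I).subschemeι ≫ PicF.XTproj f T') := by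
  refine ⟨isFinLocFree_pull f g I hI.1, fun y => ?_⟩
  obtain ⟨⟨hfin, hfl, hfp⟩, hrk⟩ := hI
  have H := (IsPullback.of_hasPullback (PicF.XTmap f g) I.subschemeι).flip.paste_vert (isPullback_XTmap f g)
  have key : (HilbD.pull f g I).subschemeι ≫ PicF.XTproj f T' =
      (eqToHom (by rw [pull_eq_comap]) ≫ (I.comapIso (PicF.XTmap f g)).hom ≫ H.isoPullback.hom) ≫
        pullback.snd (I.subschemeι ≫ PicF.XTproj f T) g.left := by
    generalize HilbD.pull f g I = J, pull_eq_comap f g I = hJ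
    subst hJ
    simp
  rw [key, Scheme.Hom.finrank_comp_left_of_isIso, Scheme.Hom.finrank_pullback_snd]
  exact hrk _

theorem good_iff_comap_le {T T' : Over S} (g : T' ⟶ T) (I₁ I₂ : (PicF.XT f T).IdealSheafData) :
    GrpSchLib.Good (I₁.subschemeι ≫ PicF.XTproj f T) (pullback.fst I₁.subschemeι I₂.subschemeι) g.left ↔
      I₂.comap (PicF.XTmap f g) ≤ I₁.comap (PicF.XTmap f g) := by
  let m := PicF.XTmap f g
  have H : IsPullback (pullback.fst m I₁.subschemeι ≫ PicF.XTproj f T') (pullback.snd m I₁.subschemeι)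
      g.left (I₁.subschemeι ≫ PicF.XTproj f T) :=
    ((IsPullback.of_hasPullback m I₁.subschemeι).flip.paste_vert (isPullback_XTmap f g)).flip
  constructor
  · rintro ⟨l, hl⟩
    let l₁ : pullback m I₁.subschemeι ⟶ pullback m I₂.subschemeι :=
      pullback.lift (pullback.fst m I₁.subschemeι) (H.isoPullback.hom ≫ l ≫ pullback.snd _ _) (by
        rw [Category.assoc, Category.assoc, ← pullback.condition (f := I₁.subschemeι) (g := I₂.subschemeι),
          reassoc_of% hl, IsPullback.isoPullback_hom_snd_assoc, pullback.condition])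
    show (pullback.fst m I₂.subschemeι).ker ≤ (pullback.fst m I₁.subschemeι).ker
    calc (pullback.fst m I₂.subschemeι).ker ≤ (l₁ ≫ pullback.fst m I₂.subschemeι).ker := Scheme.Hom.le_ker_comp _ _
      _ = (pullback.fst m I₁.subschemeι).ker := by rw [pullback.lift_fst]
  · intro h
    let l₁ : pullback m I₁.subschemeι ⟶ pullback m I₂.subschemeι :=
      IsClosedImmersion.lift (pullback.fst m I₂.subschemeι) (pullback.fst m I₁.subschemeι) h
    refine ⟨H.isoPullback.inv ≫ pullback.lift (pullback.snd m I₁.subschemeι) (l₁ ≫ pullback.snd m I₂.subschemeι) ?_, ?_⟩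
    · rw [Category.assoc, ← pullback.condition (f := m) (g := I₂.subschemeι), ← Category.assoc,
        IsClosedImmersion.lift_fac, pullback.condition]
    · rw [Category.assoc, pullback.lift_fst, IsPullback.isoPullback_inv_snd]

/-- The locus where two finite locally free families agree is a closed subscheme. -/
theorem exists_agreement {T : Over S} (I₁ I₂ : (PicF.XT f T).IdealSheafData)
    (h₁ : Mor2.IsFinLocFree (I₁.subschemeι ≫ PicF.XTproj f T))
    (h₂ : Mor2.IsFinLocFree (I₂.subschemeι ≫ PicF.XTproj f T)) :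
    ∃ (K : Scheme.{u}) (k : K ⟶ T.left), IsClosedImmersion k ∧
      ∀ (T' : Over S) (g : T' ⟶ T), (∃ w : T'.left ⟶ K, w ≫ k = g.left) ↔ HilbD.pull f g I₁ = HilbD.pull f g I₂ := by
  obtain ⟨a1, a2, a3⟩ := h₁
  obtain ⟨b1, b2, b3⟩ := h₂
  obtain ⟨Z₁, z₁, hz₁, u₁⟩ := GrpSchLib.exists_weilRestriction
    (hasIdeals_of_finLocFree (I₁.subschemeι ≫ PicF.XTproj f T) (pullback.fst I₁.subschemeι I₂.subschemeι))
  obtain ⟨Z₂, z₂, hz₂, u₂⟩ := GrpSchLib.exists_weilRestriction
    (hasIdeals_of_finLocFree (I₂.subschemeι ≫ PicF.XTproj f T) (pullback.fst I₂.subschemeι I₁.subschemeι))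
  refine ⟨pullback z₁ z₂, pullback.fst z₁ z₂ ≫ z₁, inferInstance, fun T' g => ⟨?_, fun h => ?_⟩⟩
  · rintro ⟨w, hw⟩
    rw [pull_eq_comap, pull_eq_comap]
    refine le_antisymm ((good_iff_comap_le f g I₂ I₁).1 ((u₂ _ _).1 ⟨w ≫ pullback.snd z₁ z₂, ?_⟩))
      ((good_iff_comap_le f g I₁ I₂).1 ((u₁ _ _).1 ⟨w ≫ pullback.fst z₁ z₂, ?_⟩))
    · rw [Category.assoc, ← pullback.condition, hw]
    · rw [Category.assoc, hw]
  · rw [pull_eq_comap, pull_eq_comap] at h
    obtain ⟨w₁, hw₁⟩ := (u₁ _ g.left).2 ((good_iff_comap_le f g I₁ I₂).2 h.ge)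
    obtain ⟨w₂, hw₂⟩ := (u₂ _ g.left).2 ((good_iff_comap_le f g I₂ I₁).2 h.le)
    exact ⟨pullback.lift w₁ w₂ (hw₁.trans hw₂.symm), by rw [pullback.lift_fst_assoc, hw₁]⟩

/-- A scheme representing the Hilbert functor is separated. -/
theorem isSeparated_of_isUniversal (d : ℕ) (H : Over S) (Z : HilbD.Obj f d H)
    (hZ : HilbD.IsUniversal f d H Z) : IsSeparated H.hom := by
  let HH : Over S := Over.mk (pullback.fst H.hom H.hom ≫ H.hom)
  let p₁ : HH ⟶ H := Over.homMk (pullback.fst H.hom H.hom) rfl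
  let p₂ : HH ⟶ H := Over.homMk (pullback.snd H.hom H.hom) pullback.condition.symm
  obtain ⟨K, k, hk, hK⟩ := exists_agreement f (HilbD.pull f p₁ Z.1) (HilbD.pull f p₂ Z.1)
    (isFinLocFree_pull f p₁ Z.1 Z.2.1) (isFinLocFree_pull f p₂ Z.1 Z.2.1)
  let δ : H ⟶ HH := Over.homMk (pullback.diagonal H.hom) (by simp [HH])
  have hδ1 : δ ≫ p₁ = 𝟙 H := Over.OverMorphism.ext (pullback.diagonal_fst _)
  have hδ2 : δ ≫ p₂ = 𝟙 H := Over.OverMorphism.ext (pullback.diagonal_snd _)
  obtain ⟨d', hd'⟩ := (hK H δ).2 (by rw [pull_pull, pull_pull, hδ1, hδ2])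
  let K' : Over S := Over.mk (k ≫ HH.hom)
  let k' : K' ⟶ HH := Over.homMk k rfl
  have hk12 : k' ≫ p₁ = k' ≫ p₂ := by
    have hd : Mor2.IsFinLocFreeOfDeg d ((HilbD.pull f (k' ≫ p₁) Z.1).subschemeι ≫ PicF.XTproj f K') :=
      isFinLocFreeOfDeg_pull f (k' ≫ p₁) Z.1 Z.2
    obtain ⟨g₀, hg₀, huniq⟩ := hZ K' ⟨_, hd⟩
    have e := (hK K' k').1 ⟨𝟙 K, Category.id_comp _⟩
    rw [pull_pull, pull_pull] at e
    exact (huniq _ rfl).trans (huniq _ e.symm).symm
  have hk3 : (k ≫ pullback.fst H.hom H.hom) ≫ pullback.diagonal H.hom = k := by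
    have h2 : k ≫ pullback.fst H.hom H.hom = k ≫ pullback.snd H.hom H.hom := congrArg CommaMorphism.left hk12
    apply pullback.hom_ext
    · simp
    · simp [h2]
  haveI : IsClosedImmersion k := hk
  have hd'' : d' ≫ k = pullback.diagonal H.hom := hd'
  haveI : IsIso d' := ⟨k ≫ pullback.fst H.hom H.hom, by
    rw [← Category.assoc, hd'', pullback.diagonal_fst], by
    rw [← cancel_mono k, Category.assoc, hd'', hk3, Category.id_comp]⟩
  refine ⟨?_⟩
  rw [← hd'']
  infer_instance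

end Groth.Agent.HilbDLib
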