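import Groth.Agent.HilbDLib.GlueBig

/-!
The scheme glued from an atlas represents the functor.
-/

set_option autoImplicit false
set_option backward.isDefEq.respectTransparency false
set_option linter.style.haveILetI false

universe u

open CategoryTheory CategoryTheory.Limits AlgebraicGeometry

namespace Groth.Agent.HilbDLib.GlueBig.Atlas

open Groth.Agent.Synt29.RepOpen

variable {R : Type u} [CommRing R] {F : CommAlgCat.{u} R ⥤ Type u} (𝒜 : Atlas F)

/-- The structure maps form a cocone. -/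
noncomputable def baseCocone : Cocone 𝒜.diagram where
  pt := Spec (CommRingCat.of R)
  ι :=
    { app T := (sp (𝒜.conj T).C).hom
      naturality {T T'} f := by
        show spMap (𝒜.res f.le) ≫ _ = _ ≫ 𝟙 _
        rw [Category.comp_id]
        exact spMap_w _ }

/-- The glued scheme over the base. -/
noncomputable def glued : Over (Spec (CommRingCat.of R)) :=
  Over.mk (colimit.desc 𝒜.diagram 𝒜.baseCocone)

/-- The immersion of a chart. -/
noncomputable def toGlued (T : 𝒜.J) : sp (𝒜.conj T).C ⟶ 𝒜.glued :=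
  Over.homMk (colimit.ι 𝒜.diagram T) (colimit.ι_desc 𝒜.baseCocone T)

theorem res_toGlued {T T' : 𝒜.J} (h : T ≤ T') : spOver (𝒜.res h) ≫ 𝒜.toGlued T' = 𝒜.toGlued T :=
  Over.OverMorphism.ext (colimit.w 𝒜.diagram (homOfLE h))

theorem mono_toGlued (T : 𝒜.J) : Mono (𝒜.toGlued T).left := inferInstanceAs (Mono (colimit.ι 𝒜.diagram T))

/-- The chart of one index. -/
def single (i : 𝒜.idx) : 𝒜.J := OrderDual.toDual ⟨{i}, Finset.singleton_nonempty i⟩

theorem toGlued_congr {A : CommAlgCat.{u} R} {T T' : 𝒜.J} (ψ : (𝒜.conj T).C ⟶ A) (ψ' : (𝒜.conj T').C ⟶ A)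
    (h : F.map ψ (𝒜.conj T).univ = F.map ψ' (𝒜.conj T').univ) :
    spOver ψ ≫ 𝒜.toGlued T = spOver ψ' ≫ 𝒜.toGlued T' := by
  classical
  let T'' : 𝒜.J := OrderDual.toDual ⟨T.ofDual.1 ∪ T'.ofDual.1, T.ofDual.2.mono Finset.subset_union_left⟩
  have h1 : T'' ≤ T := (Finset.subset_union_left : T.ofDual.1 ⊆ T''.ofDual.1)
  have h2 : T'' ≤ T' := (Finset.subset_union_right : T'.ofDual.1 ⊆ T''.ofDual.1)
  have hx : (𝒜.conj T'').P A (F.map ψ (𝒜.conj T).univ) := (𝒜.conj_P T'' A _).2 fun j hj => by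
    rcases Finset.mem_union.1 hj with hj | hj
    · exact (𝒜.conj_P T A _).1 ((𝒜.conj T).map_mem ψ (𝒜.conj T).mem_univ) j hj
    · rw [h]; exact (𝒜.conj_P T' A _).1 ((𝒜.conj T').map_mem ψ' (𝒜.conj T').mem_univ) j hj
  obtain ⟨χ, hχ, -⟩ := (𝒜.conj T'').lift hx
  rw [show ψ = 𝒜.res h1 ≫ χ from (𝒜.conj T).big_map_eq (by rw [← map_map, res_spec, hχ]),
    show ψ' = 𝒜.res h2 ≫ χ from (𝒜.conj T').big_map_eq (by rw [← map_map, res_spec, hχ, h]),
    spOver_comp, spOver_comp, Category.assoc, Category.assoc, res_toGlued, res_toGlued]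

/-- A morphism classifies an element. -/
def Rel {A : CommAlgCat.{u} R} (x : F.obj A) (g : sp A ⟶ 𝒜.glued) : Prop :=
  ∀ (T : 𝒜.J) (B : CommAlgCat.{u} R) (φ : A ⟶ B) (ψ : (𝒜.conj T).C ⟶ B),
    F.map φ x = F.map ψ (𝒜.conj T).univ → spOver φ ≫ g = spOver ψ ≫ 𝒜.toGlued T

theorem exists_local {A : CommAlgCat.{u} R} (x : F.obj A) (p : PrimeSpectrum A) :
    ∃ h : A, h ∉ p.asIdeal ∧ ∃ (T : 𝒜.J) (ψ : (𝒜.conj T).C ⟶ CommAlgCat.of R (Localization.Away h)),
      F.map ψ (𝒜.conj T).univ = F.map (toAway A h) x := by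
  let L : CommAlgCat.{u} R := CommAlgCat.of R p.asIdeal.ResidueField
  let ev : A ⟶ L := CommAlgCat.ofHom (IsScalarTower.toAlgHom R A p.asIdeal.ResidueField)
  obtain ⟨i, hi⟩ := 𝒜.cover L (Field.toIsField p.asIdeal.ResidueField) (F.map ev x)
  have hi' : (𝒜.conj (𝒜.single i)).P L (F.map ev x) := (𝒜.conj_P _ _ _).2 fun j hj => by
    rw [Finset.mem_singleton.1 hj]; exact hi
  obtain ⟨h, hh, hP⟩ := (𝒜.conj (𝒜.single i)).isOpen x L (Field.toIsField p.asIdeal.ResidueField) ev hi'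
  obtain ⟨ψ, hψ, -⟩ := (𝒜.conj (𝒜.single i)).lift hP
  exact ⟨h, fun hp => hh (Ideal.algebraMap_residueField_eq_zero.2 hp), 𝒜.single i, ψ, hψ⟩

/-- The cover by basic opens of a spanning family. -/
theorem span_range_eq_top {A : Type u} [CommRing A] {h : PrimeSpectrum A → A} (hh : ∀ p, h p ∉ p.asIdeal) :
    Ideal.span (Set.range h) = ⊤ := by
  by_contra hne
  obtain ⟨M, hM, hle⟩ := Ideal.exists_le_maximal _ hne
  exact hh ⟨M, hM.isPrime⟩ (hle (Ideal.subset_span ⟨_, rfl⟩))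

theorem exists_rel {A : CommAlgCat.{u} R} (x : F.obj A) : ∃ g : sp A ⟶ 𝒜.glued, 𝒜.Rel x g := by
  choose h hh T ψ hψ using fun p => 𝒜.exists_local x p
  let 𝒰 := Scheme.affineOpenCoverOfSpanRangeEqTop (R := CommRingCat.of A) h (span_range_eq_top hh)
  have hloc : ∀ (p q : PrimeSpectrum A) (B : CommAlgCat.{u} R)
      (φ : CommAlgCat.of R (Localization.Away (h p)) ⟶ B) (φ' : CommAlgCat.of R (Localization.Away (h q)) ⟶ B),
      toAway A (h p) ≫ φ = toAway A (h q) ≫ φ' →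
        spOver φ ≫ spOver (ψ p) ≫ 𝒜.toGlued (T p) = spOver φ' ≫ spOver (ψ q) ≫ 𝒜.toGlued (T q) := by
    intro p q B φ φ' e
    rw [← Category.assoc, ← Category.assoc, ← spOver_comp, ← spOver_comp]
    refine 𝒜.toGlued_congr _ _ ?_
    rw [← map_map, ← map_map, hψ, hψ, map_map, map_map, e]
  let loc : ∀ p : PrimeSpectrum A, 𝒰.openCover.X p ⟶ 𝒜.glued.left := fun p => (spOver (ψ p) ≫ 𝒜.toGlued (T p)).left
  have hcompat : ∀ p q, pullback.fst (𝒰.openCover.f p) (𝒰.openCover.f q) ≫ loc p =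
      pullback.snd (𝒰.openCover.f p) (𝒰.openCover.f q) ≫ loc q := by
    intro p q
    let P := pullback (spMap (toAway A (h p))) (spMap (toAway A (h q)))
    let P' : Over (Spec (CommRingCat.of R)) :=
      Over.mk (pullback.fst (spMap (toAway A (h p))) (spMap (toAway A (h q))) ≫ spMap (toAway A (h p)) ≫ (sp A).hom)
    have h1 : ∀ C : CommAlgCat.{u} R, IsAffine (sp C).left := fun C => inferInstanceAs (IsAffine (Spec _))
    haveI := h1 A
    haveI := h1 (CommAlgCat.of R (Localization.Away (h p)))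
    haveI := h1 (CommAlgCat.of R (Localization.Away (h q)))
    have : IsAffine P'.left :=
      inferInstanceAs (IsAffine (pullback (spMap (toAway A (h p))) (spMap (toAway A (h q)))))
    obtain ⟨B, ⟨iB⟩⟩ := exists_sp_iso P'
    let a : P' ⟶ sp (CommAlgCat.of R (Localization.Away (h p))) :=
      Over.homMk (pullback.fst _ _) (by rw [← spMap_w (toAway A (h p))]; rfl)
    let b : P' ⟶ sp (CommAlgCat.of R (Localization.Away (h q))) :=
      Over.homMk (pullback.snd _ _) (by rw [← spMap_w (toAway A (h q)), ← pullback.condition_assoc]; rfl)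
    obtain ⟨φ, hφ⟩ := exists_spMap (iB.hom ≫ a)
    obtain ⟨φ', hφ'⟩ := exists_spMap (iB.hom ≫ b)
    have e : toAway A (h p) ≫ φ = toAway A (h q) ≫ φ' := by
      refine (spEquiv A B).symm.injective ?_
      show spOver _ = spOver _
      rw [spOver_comp, spOver_comp, ← hφ, ← hφ', Category.assoc, Category.assoc]
      congr 1
      exact Over.OverMorphism.ext pullback.condition
    have := hloc p q B φ φ' e
    rw [← hφ, ← hφ', Category.assoc, Category.assoc, cancel_epi] at this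
    exact congrArg CommaMorphism.left this
  let g₀ : (sp A).left ⟶ 𝒜.glued.left := 𝒰.openCover.glueMorphisms loc hcompat
  have hg₀ : ∀ p, spMap (toAway A (h p)) ≫ g₀ = loc p := fun p => 𝒰.openCover.ι_glueMorphisms loc hcompat p
  have hw : g₀ ≫ 𝒜.glued.hom = (sp A).hom := 𝒰.openCover.hom_ext _ _ fun p => by
    show spMap (toAway A (h p)) ≫ g₀ ≫ _ = spMap (toAway A (h p)) ≫ (sp A).hom
    rw [reassoc_of% hg₀ p, spMap_w]
    exact Over.w (spOver (ψ p) ≫ 𝒜.toGlued (T p))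
  refine ⟨Over.homMk g₀ hw, fun T₁ B φ ψ₁ e => Over.OverMorphism.ext ?_⟩
  let 𝒱 := Scheme.affineOpenCoverOfSpanRangeEqTop (R := CommRingCat.of B) (fun p => φ.hom (h p)) (by
    rw [show (fun p => φ.hom (h p)) = φ.hom.toRingHom ∘ h from rfl, Set.range_comp, ← Ideal.map_span,
      span_range_eq_top hh, Ideal.map_top])
  refine 𝒱.openCover.hom_ext _ _ fun p => ?_
  obtain ⟨χ, hχ⟩ := exists_away (φ ≫ toAway B (φ.hom (h p))) (h p)
    (show IsUnit (algebraMap B (Localization.Away (φ.hom (h p))) (φ.hom (h p))) from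
      IsLocalization.Away.algebraMap_isUnit _)
  show spMap (toAway B (φ.hom (h p))) ≫ spMap φ ≫ g₀ = spMap (toAway B (φ.hom (h p))) ≫ (spOver ψ₁ ≫ 𝒜.toGlued T₁).left
  have h1 : spMap (toAway B (φ.hom (h p))) ≫ spMap φ = spMap χ ≫ spMap (toAway A (h p)) :=
    congrArg CommaMorphism.left ((spOver_comp φ (toAway B (φ.hom (h p)))).symm.trans
      ((congrArg spOver hχ.symm).trans (spOver_comp (toAway A (h p)) χ)))
  rw [reassoc_of% h1, hg₀ p]
  have h2 : spOver χ ≫ spOver (ψ p) ≫ 𝒜.toGlued (T p) = spOver (toAway B (φ.hom (h p))) ≫ spOver ψ₁ ≫ 𝒜.toGlued T₁ := by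
    rw [← Category.assoc, ← Category.assoc, ← spOver_comp, ← spOver_comp]
    refine 𝒜.toGlued_congr _ _ ?_
    rw [← map_map, ← map_map, hψ, map_map, hχ, ← map_map, e]
  exact congrArg CommaMorphism.left h2

/-- The classifying morphism. -/
noncomputable def classify {A : CommAlgCat.{u} R} (x : F.obj A) : sp A ⟶ 𝒜.glued := (𝒜.exists_rel x).choose

theorem classify_spec {A : CommAlgCat.{u} R} (x : F.obj A) : 𝒜.Rel x (𝒜.classify x) := (𝒜.exists_rel x).choose_spec

theorem rel_unique {A : CommAlgCat.{u} R} {x : F.obj A} {g g' : sp A ⟶ 𝒜.glued} (hg : 𝒜.Rel x g)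
    (hg' : 𝒜.Rel x g') : g = g' := by
  choose h hh T ψ hψ using fun p => 𝒜.exists_local x p
  let 𝒰 := Scheme.affineOpenCoverOfSpanRangeEqTop (R := CommRingCat.of A) h (span_range_eq_top hh)
  refine Over.OverMorphism.ext (𝒰.openCover.hom_ext _ _ fun p => ?_)
  exact congrArg CommaMorphism.left ((hg _ _ _ _ (hψ p).symm).trans (hg' _ _ _ _ (hψ p).symm).symm)

theorem classify_map {A B : CommAlgCat.{u} R} (φ : A ⟶ B) (x : F.obj A) :
    𝒜.classify (F.map φ x) = spOver φ ≫ 𝒜.classify x := by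
  refine 𝒜.rel_unique (𝒜.classify_spec _) fun T C φ' ψ e => ?_
  rw [map_map] at e
  rw [← Category.assoc, ← spOver_comp]
  exact 𝒜.classify_spec x T C _ ψ e

theorem classify_univ (T : 𝒜.J) : 𝒜.classify (𝒜.conj T).univ = 𝒜.toGlued T := by
  have := 𝒜.classify_spec (𝒜.conj T).univ T _ (𝟙 _) (𝟙 _) rfl
  rwa [show spOver (𝟙 (𝒜.conj T).C) = 𝟙 _ from Over.OverMorphism.ext (Spec.map_id _), Category.id_comp,
    Category.id_comp] at this

theorem exists_local_point {A : CommAlgCat.{u} R} (g : sp A ⟶ 𝒜.glued) (p : PrimeSpectrum A) :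
    ∃ h : A, h ∉ p.asIdeal ∧ ∃ (T : 𝒜.J) (ψ : (𝒜.conj T).C ⟶ CommAlgCat.of R (Localization.Away h)),
      spOver (toAway A h) ≫ g = spOver ψ ≫ 𝒜.toGlued T := by
  obtain ⟨T, z, hz⟩ := Scheme.IsLocallyDirected.ι_jointly_surjective 𝒜.diagram (g.left p)
  have hU : IsOpen (g.left ⁻¹' Set.range (colimit.ι 𝒜.diagram T)) :=
    (colimit.ι 𝒜.diagram T).isOpenEmbedding.isOpen_range.preimage g.left.continuous
  obtain ⟨_, ⟨h, rfl⟩, hp, hsub⟩ :=
    (PrimeSpectrum.isTopologicalBasis_basic_opens (R := A)).exists_subset_of_mem_open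
      (show p ∈ g.left ⁻¹' Set.range (colimit.ι 𝒜.diagram T) from ⟨z, hz⟩) hU
  have hrange : Set.range (spMap (toAway A h) ≫ g.left) ⊆ Set.range (colimit.ι 𝒜.diagram T) := by
    rintro _ ⟨q, rfl⟩
    rw [Scheme.Hom.comp_apply]
    refine hsub ?_
    have := Set.mem_range_self (f := spMap (toAway A h)) q
    rw [spMap_range_away] at this
    exact this
  let l : sp (CommAlgCat.of R (Localization.Away h)) ⟶ sp (𝒜.conj T).C :=
    Over.homMk (IsOpenImmersion.lift (colimit.ι 𝒜.diagram T) (spMap (toAway A h) ≫ g.left) hrange) (by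
      show _ ≫ (sp (𝒜.conj T).C).hom = _
      rw [← Over.w (𝒜.toGlued T)]
      show _ ≫ colimit.ι 𝒜.diagram T ≫ 𝒜.glued.hom = _
      rw [IsOpenImmersion.lift_fac_assoc, Category.assoc, Over.w g, spMap_w])
  obtain ⟨ψ, hψ⟩ := exists_spMap l
  refine ⟨h, hp, T, ψ, Over.OverMorphism.ext ?_⟩
  rw [← hψ]
  exact (IsOpenImmersion.lift_fac (colimit.ι 𝒜.diagram T) (spMap (toAway A h) ≫ g.left) hrange).symm

theorem eq_of_toGlued {B : CommAlgCat.{u} R} {T T' : 𝒜.J} (ψ : (𝒜.conj T).C ⟶ B) (ψ' : (𝒜.conj T').C ⟶ B)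
    (e : spOver ψ ≫ 𝒜.toGlued T = spOver ψ' ≫ 𝒜.toGlued T') :
    F.map ψ (𝒜.conj T).univ = F.map ψ' (𝒜.conj T').univ := by
  have e' : ∀ p, colimit.ι 𝒜.diagram T (spMap ψ p) = colimit.ι 𝒜.diagram T' (spMap ψ' p) := fun p => by
    exact congrArg (fun f : (sp B).left ⟶ 𝒜.glued.left => f p) (congrArg CommaMorphism.left e)
  have hloc : ∀ p : PrimeSpectrum B, ∃ h : B, h ∉ p.asIdeal ∧
      F.map (toAway B h) (F.map ψ (𝒜.conj T).univ) = F.map (toAway B h) (F.map ψ' (𝒜.conj T').univ) := by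
    intro p
    obtain ⟨k, fi, fj, z, hz, hz'⟩ := Scheme.IsLocallyDirected.ι_eq_ι_iff 𝒜.diagram |>.1 (e' p)
    obtain ⟨h₁, hh₁, hP₁⟩ := (𝒜.mem_range_map fi _).1 ⟨z, hz⟩
    obtain ⟨h₂, hh₂, hP₂⟩ := (𝒜.mem_range_map fj _).1 ⟨z, hz'⟩
    refine ⟨ψ.hom h₁ * ψ'.hom h₂, Ideal.IsPrime.mul_notMem p.isPrime hh₁ hh₂, ?_⟩
    set h := ψ.hom h₁ * ψ'.hom h₂
    have hu : IsUnit (algebraMap B (Localization.Away h) (ψ.hom h₁)) ∧
        IsUnit (algebraMap B (Localization.Away h) (ψ'.hom h₂)) := by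
      have := IsLocalization.Away.algebraMap_isUnit (S := Localization.Away h) h
      rwa [map_mul, IsUnit.mul_iff] at this
    obtain ⟨χ, hχ⟩ := exists_away (ψ ≫ toAway B h) h₁ hu.1
    obtain ⟨χ', hχ'⟩ := exists_away (ψ' ≫ toAway B h) h₂ hu.2
    have hk : (𝒜.conj k).P _ (F.map (ψ ≫ toAway B h) (𝒜.conj T).univ) := by
      rw [← hχ, ← map_map]; exact (𝒜.conj k).map_mem χ ((𝒜.conj_P k _ _).2 hP₁)
    have hk' : (𝒜.conj k).P _ (F.map (ψ' ≫ toAway B h) (𝒜.conj T').univ) := by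
      rw [← hχ', ← map_map]; exact (𝒜.conj k).map_mem χ' ((𝒜.conj_P k _ _).2 hP₂)
    obtain ⟨α, hα, -⟩ := (𝒜.conj k).lift hk
    obtain ⟨β, hβ, -⟩ := (𝒜.conj k).lift hk'
    have h1 : ψ ≫ toAway B h = 𝒜.res fi.le ≫ α := (𝒜.conj T).big_map_eq (by rw [← map_map (𝒜.res fi.le), res_spec, hα])
    have h2 : ψ' ≫ toAway B h = 𝒜.res fj.le ≫ β := (𝒜.conj T').big_map_eq (by rw [← map_map (𝒜.res fj.le), res_spec, hβ])
    have h3 : spOver α ≫ 𝒜.toGlued k = spOver β ≫ 𝒜.toGlued k := by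
      have h4 := congrArg (spOver (toAway B h) ≫ ·) e
      simp only [← Category.assoc, ← spOver_comp, h1, h2] at h4
      rw [spOver_comp, spOver_comp, Category.assoc, Category.assoc, res_toGlued, res_toGlued] at h4
      exact h4
    have : Mono (𝒜.toGlued k).left := 𝒜.mono_toGlued k
    have h5 : spOver α = spOver β :=
      Over.OverMorphism.ext ((cancel_mono (𝒜.toGlued k).left).1 (congrArg CommaMorphism.left h3))
    have h6 : α = β := (spEquiv _ _).symm.injective h5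
    rw [map_map, map_map, ← hα, ← hβ, h6]
  choose h hh hheq using hloc
  exact 𝒜.sep B (Set.range h) (span_range_eq_top hh) _ _ (by rintro _ ⟨p, rfl⟩; exact hheq p)

theorem classify_injective (A : CommAlgCat.{u} R) : Function.Injective (𝒜.classify (A := A)) := by
  classical
  intro x y e
  choose h hh T ψ hψ using fun p => 𝒜.exists_local x p
  refine 𝒜.sep A (Set.range h) (span_range_eq_top hh) x y ?_
  rintro _ ⟨p, rfl⟩
  set B := CommAlgCat.of R (Localization.Away (h p))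
  have h1 : 𝒜.classify (F.map (toAway A (h p)) y) = spOver (ψ p) ≫ 𝒜.toGlued (T p) := by
    rw [classify_map, ← e, ← classify_map, ← hψ p, classify_map, classify_univ]
  choose h' hh' T' ψ'' hψ'' using fun q => 𝒜.exists_local (F.map (toAway A (h p)) y) q
  refine 𝒜.sep B (Set.range h') (span_range_eq_top hh') _ _ ?_
  rintro _ ⟨q, rfl⟩
  have h2 : spOver (ψ'' q) ≫ 𝒜.toGlued (T' q) = spOver (ψ p ≫ toAway B (h' q)) ≫ 𝒜.toGlued (T p) := by
    rw [spOver_comp, Category.assoc, ← h1, ← classify_map, ← hψ'' q, classify_map, classify_univ]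
  rw [← hψ p, map_map, ← hψ'' q]
  exact (𝒜.eq_of_toGlued _ _ h2).symm

theorem classify_bijective (A : CommAlgCat.{u} R) : Function.Bijective (𝒜.classify (A := A)) := by
  classical
  refine ⟨𝒜.classify_injective A, ?_⟩
  · intro g
    choose h hh T ψ hψ using fun p => 𝒜.exists_local_point g p
    obtain ⟨s, hs, hspan⟩ : ∃ s : Finset A, (s : Set A) ⊆ Set.range h ∧ Ideal.span (s : Set A) = ⊤ := by
      obtain ⟨s, hs, h1⟩ := Submodule.mem_span_finite_of_mem_span (R := A)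
        (show (1 : A) ∈ Submodule.span A (Set.range h) from (span_range_eq_top hh).ge (Submodule.mem_top))
      exact ⟨s, hs, (Ideal.eq_top_iff_one _).2 h1⟩
    have hspec : ∀ a ∈ s, ∃ xa : F.obj (CommAlgCat.of R (Localization.Away a)),
        𝒜.classify xa = spOver (toAway A a) ≫ g := fun a ha => by
      obtain ⟨p, rfl⟩ := hs ha
      exact ⟨F.map (ψ p) (𝒜.conj (T p)).univ, by rw [classify_map, classify_univ, hψ]⟩
    choose xs hxs using hspec
    obtain ⟨x, hx⟩ := 𝒜.glue A s hspan xs (fun a ha a' ha' B φ φ' e => by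
      have heq : 𝒜.classify (F.map φ (xs a ha)) = 𝒜.classify (F.map φ' (xs a' ha')) := by
        rw [classify_map, classify_map, hxs, hxs, ← Category.assoc, ← Category.assoc, ← spOver_comp,
          ← spOver_comp, e]
      exact 𝒜.classify_injective B heq)
    refine ⟨x, ?_⟩
    let 𝒰 := Scheme.affineOpenCoverOfSpanRangeEqTop (R := CommRingCat.of A) (fun a : {a // a ∈ s} => (a.1 : A))
      (by rw [Subtype.range_coe_subtype]; exact hspan)
    refine Over.OverMorphism.ext (𝒰.openCover.hom_ext _ _ fun a => ?_)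
    have := 𝒜.classify_map (toAway A a.1) x
    rw [hx a.1 a.2, hxs a.1 a.2] at this
    exact congrArg CommaMorphism.left this.symm

/-- The representing bijection. -/
noncomputable def classifyEquiv (A : CommAlgCat.{u} R) : (sp A ⟶ 𝒜.glued) ≃ F.obj A :=
  (Equiv.ofBijective _ (𝒜.classify_bijective A)).symm

theorem isNat_classifyEquiv : IsNat 𝒜.glued F 𝒜.classifyEquiv := by
  intro A B φ g
  refine (Equiv.symm_apply_eq _).2 ?_
  show spOver φ ≫ g = 𝒜.classify (F.map φ (𝒜.classifyEquiv A g))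
  rw [classify_map]
  congr 1
  exact ((Equiv.ofBijective _ (𝒜.classify_bijective A)).apply_symm_apply g).symm

end Groth.Agent.HilbDLib.GlueBig.Atlas
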