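import Groth.Agent.HilbDLib.GrassMod
import Groth.Agent.HilbDLib.StableLocus
import Groth.Agent.HilbDLib.GlueBigX

/-!
# Charts of the functor of points of the Hilbert scheme of points of an affine scheme
-/

set_option autoImplicit false
set_option backward.isDefEq.respectTransparency false
set_option linter.style.haveILetI false

universe u

open TensorProduct CategoryTheory

namespace Groth.Agent.HilbDLib.AffChart

open Module (Grassmannian)
open Groth.Agent.HilbDLib.StableLocus (Stab)
open Groth.Agent.HilbDLib.GrassMod (ι ι_tmul ι_smul)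

variable {R : Type u} [CommRing R] {B : Type u} [CommRing B] [Algebra R B] {d : ℕ}

section Alg

variable {A C : Type u} [CommRing A] [Algebra R A] [CommRing C] [Algebra R C]

theorem ι_mul (φ : A →ₐ[R] C) (x y : A ⊗[R] B) : ι φ (x * y) = ι φ x * ι φ y := by
  induction x with
  | zero => simp
  | tmul a v =>
    induction y with
    | zero => simp
    | tmul a' w => simp [Algebra.TensorProduct.tmul_mul_tmul, ι_tmul]
    | add y z hy hz => simp only [mul_add, map_add, hy, hz]
  | add x z hx hz => simp only [add_mul, map_add, hx, hz]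

theorem ι_one_tmul (φ : A →ₐ[R] C) (v : B) : ι φ ((1 : A) ⊗ₜ[R] v) = (1 : C) ⊗ₜ[R] v := by
  rw [ι_tmul, map_one]

theorem stab_map (φ : A →ₐ[R] C) {N : Grassmannian A (A ⊗[R] B) d} (h : Stab (R := R) N.toSubmodule) :
    Stab (R := R) (Grassmannian.map φ N).toSubmodule := by
  intro v x hx
  rw [GrassMod.map_eq_span] at hx ⊢
  induction hx using Submodule.span_induction with
  | mem z hz =>
    obtain ⟨y, hy, rfl⟩ := hz
    exact Submodule.subset_span ⟨_, h v y hy, by rw [ι_mul, ι_one_tmul]⟩
  | zero => simp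
  | add a b _ _ ha hb => rw [mul_add]; exact add_mem ha hb
  | smul t a _ ha => rw [Algebra.mul_smul_comm]; exact Submodule.smul_mem _ _ ha

/-- The map from the free module on `b` to the base change. -/
noncomputable def sect (b : Fin d → B) : (Fin d → A) →ₗ[A] A ⊗[R] B :=
  Fintype.linearCombination A fun i => (1 : A) ⊗ₜ[R] b i

theorem sect_apply (b : Fin d → B) (y : Fin d → A) :
    sect (R := R) b y = ∑ i, y i • ((1 : A) ⊗ₜ[R] b i) := Fintype.linearCombination_apply ..

theorem sect_single (b : Fin d → B) (i : Fin d) :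
    sect (R := R) b (Pi.single i (1 : A)) = (1 : A) ⊗ₜ[R] b i := by
  rw [sect, Fintype.linearCombination_apply_single, one_smul]

variable (R A) in
/-- Coordinates of an ideal in the chart of `b`. -/
@[ext]
structure Coord (b : Fin d → B) where
  /-- The coordinates of the elements of `B`. -/
  c : B →ₗ[R] (Fin d → A)
  c_base : ∀ i, c (b i) = Pi.single i 1
  c_mul : ∀ v w, c (v * w) = ∑ i, c w i • c (v * b i)

variable {b : Fin d → B}

/-- The projection. -/
noncomputable def Coord.ρ (c : Coord R A b) : A ⊗[R] B →ₗ[A] (Fin d → A) := c.c.liftBaseChange A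

theorem Coord.ρ_tmul (c : Coord R A b) (a : A) (w : B) : c.ρ (a ⊗ₜ[R] w) = a • c.c w :=
  LinearMap.liftBaseChange_tmul ..

theorem Coord.ρ_sect (c : Coord R A b) (y : Fin d → A) : c.ρ (sect b y) = y := by
  have : c.ρ.comp (sect b) = LinearMap.id := by
    refine (Pi.basisFun A (Fin d)).ext fun i => ?_
    rw [LinearMap.comp_apply, Pi.basisFun_apply, sect_single, Coord.ρ_tmul, one_smul, c.c_base,
      LinearMap.id_apply]
  exact LinearMap.congr_fun this y

theorem Coord.ρ_surjective (c : Coord R A b) : Function.Surjective c.ρ := fun y => ⟨_, c.ρ_sect y⟩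

theorem Coord.ρ_mul (c : Coord R A b) (v : B) (x : A ⊗[R] B) :
    c.ρ (((1 : A) ⊗ₜ[R] v) * x) = Fintype.linearCombination A (fun i => c.c (v * b i)) (c.ρ x) := by
  induction x with
  | zero => simp
  | tmul a w =>
    rw [Algebra.TensorProduct.tmul_mul_tmul, one_mul, c.ρ_tmul, c.ρ_tmul, map_smul, c.c_mul v w,
      Fintype.linearCombination_apply]
  | add x y hx hy => rw [mul_add, map_add, map_add, map_add, hx, hy]

/-- The point with given coordinates. -/
noncomputable def Coord.graph (c : Coord R A b) : Grassmannian A (A ⊗[R] B) d :=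
  letI e := c.ρ.quotKerEquivOfSurjective c.ρ_surjective
  { toSubmodule := LinearMap.ker c.ρ
    finite_quotient := Module.Finite.equiv e.symm
    projective_quotient := Module.Projective.of_equiv e.symm
    rankAtStalk_eq := fun p => by
      have : Nontrivial A := PrimeSpectrum.nontrivial p
      rw [Module.rankAtStalk_eq_of_equiv e, Module.rankAtStalk_eq_finrank_of_free]
      simp }

theorem Coord.graph_stab (c : Coord R A b) : Stab (R := R) c.graph.toSubmodule := fun v x hx => by
  show c.ρ _ = 0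
  rw [c.ρ_mul, show c.ρ x = 0 from hx, map_zero]

theorem Coord.sub_sect_mem (c : Coord R A b) (x : A ⊗[R] B) : x - sect b (c.ρ x) ∈ c.graph.toSubmodule := by
  show c.ρ _ = 0
  rw [map_sub, c.ρ_sect, sub_self]

theorem Coord.graph_injective {c c' : Coord R A b} (h : c.graph = c'.graph) : c = c' := by
  refine Coord.ext (LinearMap.ext fun w => ?_)
  have h2 := c.sub_sect_mem ((1 : A) ⊗ₜ[R] w)
  rw [h] at h2
  have h1 : c'.ρ (((1 : A) ⊗ₜ[R] w) - sect b (c.ρ ((1 : A) ⊗ₜ[R] w))) = 0 := h2
  rw [map_sub, c'.ρ_sect, c'.ρ_tmul, one_smul, c.ρ_tmul, one_smul, sub_eq_zero] at h1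
  exact h1.symm

/-- Being in the chart of `b`: the images of `b` span the quotient. -/
def InChart (b : Fin d → B) (N : Grassmannian A (A ⊗[R] B) d) : Prop :=
  Function.Surjective (N.toSubmodule.mkQ.comp (sect b))

theorem Coord.graph_inChart (c : Coord R A b) : InChart b c.graph := by
  intro q
  obtain ⟨x, rfl⟩ := Submodule.mkQ_surjective _ q
  refine ⟨c.ρ x, ?_⟩
  rw [LinearMap.comp_apply, Submodule.mkQ_apply, Submodule.mkQ_apply, Submodule.Quotient.eq,
    ← neg_sub]
  exact neg_mem (c.sub_sect_mem x)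

theorem InChart.bijective {N : Grassmannian A (A ⊗[R] B) d} (h : InChart b N) :
    Function.Bijective (N.toSubmodule.mkQ.comp (sect b)) :=
  Module.bijective_of_surjective_of_rankAtStalk_eq h fun q _ => by
    have : Nontrivial A := PrimeSpectrum.nontrivial ⟨q, inferInstance⟩
    rw [N.rankAtStalk_eq, Module.rankAtStalk_eq_finrank_of_free]
    simp

theorem InChart.exists_coord {N : Grassmannian A (A ⊗[R] B) d} (h : InChart b N)
    (hs : Stab (R := R) N.toSubmodule) : ∃ c : Coord R A b, c.graph = N := by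
  let e := LinearEquiv.ofBijective _ h.bijective
  let π : A ⊗[R] B →ₗ[A] (Fin d → A) := e.symm.toLinearMap.comp N.toSubmodule.mkQ
  have hπs : ∀ y, π (sect b y) = y := fun y => e.symm_apply_apply y
  have hπ : LinearMap.ker π = N.toSubmodule := by rw [LinearEquiv.ker_comp, Submodule.ker_mkQ]
  let c0 : B →ₗ[R] (Fin d → A) :=
    (π.restrictScalars R).comp (TensorProduct.mk R A B 1)
  have hmul : ∀ v w, c0 (v * w) = ∑ i, c0 w i • c0 (v * b i) := fun v w => by
    let x := ((1 : A) ⊗ₜ[R] w) - sect b (c0 w)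
    have hx : x ∈ N.toSubmodule := by
      rw [← hπ, LinearMap.mem_ker, map_sub, hπs]
      exact sub_self _
    have h2 := hs v x hx
    rw [← hπ, LinearMap.mem_ker, mul_sub, map_sub, sub_eq_zero, Algebra.TensorProduct.tmul_mul_tmul,
      one_mul, sect_apply, Finset.mul_sum, map_sum] at h2
    refine h2.trans (Finset.sum_congr rfl fun i _ => ?_)
    rw [Algebra.mul_smul_comm, map_smul, Algebra.TensorProduct.tmul_mul_tmul, one_mul]
    rfl
  let c : Coord R A b := ⟨c0, fun i => by
    show π _ = _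
    rw [TensorProduct.mk_apply, ← sect_single b i, hπs], hmul⟩
  have hρ : c.ρ = π := by
    refine TensorProduct.AlgebraTensorModule.ext fun a w => ?_
    rw [c.ρ_tmul]
    show a • π _ = _
    rw [← map_smul, TensorProduct.mk_apply, smul_tmul', smul_eq_mul, mul_one]
  exact ⟨c, Grassmannian.ext (by show LinearMap.ker c.ρ = _; rw [hρ, hπ])⟩

/-- Transport of coordinates. -/
noncomputable def Coord.map (φ : A →ₐ[R] C) (c : Coord R A b) : Coord R C b where
  c := φ.toLinearMap.compLeft (Fin d) ∘ₗ c.c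
  c_base i := by
    ext j
    simp [c.c_base, Pi.single_apply, apply_ite φ]
  c_mul v w := by
    ext j
    simp [c.c_mul v w, Finset.sum_apply]

theorem Coord.map_apply (φ : A →ₐ[R] C) (c : Coord R A b) (w : B) (j : Fin d) :
    (c.map φ).c w j = φ (c.c w j) := rfl

theorem Coord.ρ_map (φ : A →ₐ[R] C) (c : Coord R A b) (x : A ⊗[R] B) (j : Fin d) :
    (c.map φ).ρ (ι φ x) j = φ (c.ρ x j) := by
  induction x with
  | zero => simp
  | tmul a w => simp [ι_tmul, Coord.ρ_tmul, Coord.map_apply]
  | add x y hx hy => simp [map_add, hx, hy]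

theorem ι_sect (φ : A →ₐ[R] C) (y : Fin d → A) :
    ι φ (sect b y) = sect (R := R) b (fun i => φ (y i)) := by
  rw [sect_apply, sect_apply, map_sum]
  exact Finset.sum_congr rfl fun i _ => by rw [ι_smul, ι_one_tmul]

theorem map_graph (φ : A →ₐ[R] C) (c : Coord R A b) : Grassmannian.map φ c.graph = (c.map φ).graph := by
  refine Grassmannian.ext ?_
  rw [GrassMod.map_eq_span]
  refine le_antisymm (Submodule.span_le.2 ?_) fun z hz => ?_
  · rintro _ ⟨x, hx, rfl⟩
    show (c.map φ).ρ _ = 0
    funext j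
    rw [c.ρ_map, show c.ρ x = 0 from hx, Pi.zero_apply, map_zero, Pi.zero_apply]
  · have key : ∀ z, z - sect b ((c.map φ).ρ z) ∈
        Submodule.span C (ι φ '' (c.graph.toSubmodule : Set (A ⊗[R] B))) := by
      intro z
      induction z with
      | zero => simp
      | tmul t w =>
        have h1 : ι φ (((1 : A) ⊗ₜ[R] w) - sect b (c.ρ ((1 : A) ⊗ₜ[R] w))) =
            ((1 : C) ⊗ₜ[R] w) - sect b ((c.map φ).ρ ((1 : C) ⊗ₜ[R] w)) := by
          rw [map_sub, ι_one_tmul, ι_sect, Coord.ρ_tmul, Coord.ρ_tmul, one_smul, one_smul]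
          rfl
        rw [show t ⊗ₜ[R] w = t • ((1 : C) ⊗ₜ[R] w) by rw [smul_tmul', smul_eq_mul, mul_one], map_smul,
          map_smul, ← smul_sub, ← h1]
        exact Submodule.smul_mem _ _ (Submodule.subset_span ⟨_, c.sub_sect_mem _, rfl⟩)
      | add x y hx hy => rw [map_add, map_add, add_sub_add_comm]; exact add_mem hx hy
    have := key z
    rwa [show (c.map φ).ρ z = 0 from hz, map_zero, sub_zero] at this

theorem inChart_map (φ : A →ₐ[R] C) {N : Grassmannian A (A ⊗[R] B) d} (hs : Stab (R := R) N.toSubmodule)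
    (h : InChart b N) : InChart b (Grassmannian.map φ N) := by
  obtain ⟨c, rfl⟩ := h.exists_coord hs
  rw [map_graph]
  exact (c.map φ).graph_inChart

theorem inChart_iff_isUnit_det {b' : Fin d → B} (c : Coord R A b) :
    InChart b' c.graph ↔ IsUnit (Matrix.of fun k l => c.c (b' k) l).det := by
  rw [← Matrix.isUnit_iff_isUnit_det, ← Matrix.vecMul_surjective_iff_isUnit]
  have hv : ∀ y : Fin d → A, Matrix.vecMul y (Matrix.of fun k l => c.c (b' k) l) = c.ρ (sect b' y) := by
    intro y
    rw [sect_apply, map_sum]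
    funext l
    simp [Matrix.vecMul, dotProduct, c.ρ_tmul, Finset.sum_apply]
  constructor
  · intro h y
    obtain ⟨z, hz⟩ := h (c.graph.toSubmodule.mkQ (sect b y))
    refine ⟨z, (hv z).trans ?_⟩
    rw [LinearMap.comp_apply, Submodule.mkQ_apply, Submodule.mkQ_apply, Submodule.Quotient.eq] at hz
    have := LinearMap.mem_ker.1 hz
    rwa [map_sub, c.ρ_sect, sub_eq_zero] at this
  · intro h q
    obtain ⟨x, rfl⟩ := Submodule.mkQ_surjective _ q
    obtain ⟨z, hz⟩ := h (c.ρ x)
    refine ⟨z, ?_⟩
    rw [LinearMap.comp_apply, Submodule.mkQ_apply, Submodule.mkQ_apply, Submodule.Quotient.eq]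
    show c.ρ _ = 0
    rw [map_sub, sub_eq_zero, ← hv]
    exact hz

theorem inChart_iff_span {N : Grassmannian A (A ⊗[R] B) d} :
    InChart b N ↔ Submodule.span A (Set.range fun i => N.toSubmodule.mkQ ((1 : A) ⊗ₜ[R] b i)) = ⊤ := by
  have : N.toSubmodule.mkQ.comp (sect b) =
      Fintype.linearCombination A fun i => N.toSubmodule.mkQ ((1 : A) ⊗ₜ[R] b i) := by
    refine (Pi.basisFun A (Fin d)).ext fun i => ?_
    rw [LinearMap.comp_apply, Pi.basisFun_apply, sect_single, Fintype.linearCombination_apply_single, one_smul]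
  rw [InChart, this, ← LinearMap.range_eq_top, Fintype.range_linearCombination]

theorem inChart_map_iff [Algebra A C] [IsScalarTower R A C] {N : Grassmannian A (A ⊗[R] B) d} :
    InChart b (Grassmannian.map (IsScalarTower.toAlgHom R A C) N) ↔
      Submodule.span C (Set.range fun i => (1 : C) ⊗ₜ[A] N.toSubmodule.mkQ ((1 : A) ⊗ₜ[R] b i)) = ⊤ := by
  rw [inChart_iff_span]
  let e : ((C ⊗[R] B) ⧸ (Grassmannian.map (IsScalarTower.toAlgHom R A C) N).toSubmodule) ≃ₗ[C]
      C ⊗[A] ((A ⊗[R] B) ⧸ N.toSubmodule) :=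
    (Submodule.quotEquivOfEq _ _ (by rw [GrassMod.map_eq_span, GrassMod.ker_baseChangeMkQ])).trans
      (Grassmannian.baseChangeMkQEquiv N.toSubmodule)
  have he : ∀ i, e ((Grassmannian.map (IsScalarTower.toAlgHom R A C) N).toSubmodule.mkQ
      ((1 : C) ⊗ₜ[R] b i)) = (1 : C) ⊗ₜ[A] N.toSubmodule.mkQ ((1 : A) ⊗ₜ[R] b i) := fun i => by
    simp [e, Grassmannian.baseChangeMkQEquiv, Grassmannian.baseChangeMkQ]
  rw [← (Submodule.map_injective_of_injective (f := e.toLinearMap) e.injective).eq_iff, Submodule.map_span,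
    Submodule.map_top, LinearEquiv.range, ← Set.range_comp]
  simp only [Function.comp_def, LinearEquiv.coe_coe, he]

theorem exists_away_inChart {N : Grassmannian A (A ⊗[R] B) d} (L : Type u) [CommRing L]
    [Algebra R L] (hL : IsField L) (ψ : A →ₐ[R] L) (h : InChart b (Grassmannian.map ψ N)) :
    ∃ a : A, ψ a ≠ 0 ∧ InChart b (Grassmannian.map (IsScalarTower.toAlgHom R A (Localization.Away a)) N) := by
  letI := hL.toField
  letI : Algebra A L := ψ.toRingHom.toAlgebra
  haveI : IsScalarTower R A L := IsScalarTower.of_algebraMap_eq' ψ.comp_algebraMap.symm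
  have hψ : IsScalarTower.toAlgHom R A L = ψ := AlgHom.ext fun _ => rfl
  rw [← hψ, inChart_map_iff] at h
  let Q := (A ⊗[R] B) ⧸ N.toSubmodule
  let S : Submodule A Q := Submodule.span A (Set.range fun i => N.toSubmodule.mkQ ((1 : A) ⊗ₜ[R] b i))
  let p : PrimeSpectrum A := ⟨RingHom.ker ψ.toRingHom, RingHom.ker_isPrime _⟩
  haveI : p.asIdeal.IsPrime := p.isPrime
  have hsub : Subsingleton (L ⊗[A] (Q ⧸ S)) := by
    refine Submodule.subsingleton_iff L |>.1 (subsingleton_of_bot_eq_top (Eq.symm ?_))
    have hsurj : Function.Surjective (S.mkQ.baseChange L) := LinearMap.baseChange_surjective L S.mkQ_surjective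
    rw [← Submodule.map_top (LinearMap.baseChange L S.mkQ) |>.trans (LinearMap.range_eq_top.2 hsurj), ← h,
      Submodule.map_span, ← Set.range_comp, Submodule.span_eq_bot]
    rintro _ ⟨i, rfl⟩
    rw [Function.comp_apply, LinearMap.baseChange_tmul, Submodule.mkQ_apply S,
      (Submodule.Quotient.mk_eq_zero S).2 (Submodule.subset_span ⟨i, rfl⟩), tmul_zero]
  have hp : p ∉ Module.support A (Q ⧸ S) := by
    rw [Module.mem_support_iff_nontrivial_residueField_tensorProduct]
    intro hn
    let κ := p.asIdeal.ResidueField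
    have hc : p.asIdeal.primeCompl ≤ (IsUnit.submonoid L).comap ψ.toRingHom :=
      fun x hx => Ne.isUnit fun h0 => hx h0
    letI : Algebra κ L := (Ideal.ResidueField.lift p.asIdeal ψ.toRingHom le_rfl hc).toAlgebra
    haveI : IsScalarTower A κ L := IsScalarTower.of_algebraMap_eq' (RingHom.ext fun x =>
      (Ideal.ResidueField.lift_algebraMap p.asIdeal ψ.toRingHom le_rfl hc x).symm)
    have h3 : Nontrivial (L ⊗[κ] (κ ⊗[A] (Q ⧸ S))) := Module.FaithfullyFlat.lTensor_nontrivial κ L _
    have h4 := (AlgebraTensorModule.cancelBaseChange A κ L L (Q ⧸ S)).toEquiv.subsingleton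
    exact not_nontrivial (L ⊗[κ] (κ ⊗[A] (Q ⧸ S))) h3
  obtain ⟨a, ha, ha'⟩ := Set.not_subset.1 (mt (Module.mem_support_iff_of_finite).2 hp)
  refine ⟨a, fun h0 => ha' h0, ?_⟩
  rw [inChart_map_iff, eq_top_iff]
  intro z _
  induction z with
  | zero => exact zero_mem _
  | tmul t q =>
    have hq : a • q ∈ S := by
      rw [← Submodule.Quotient.mk_eq_zero, Submodule.Quotient.mk_smul]
      exact (Module.mem_annihilator.1 ha) _
    have hu : IsUnit (algebraMap A (Localization.Away a) a) := IsLocalization.Away.algebraMap_isUnit a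
    have h1 : t ⊗ₜ[A] q = (t * ↑hu.unit⁻¹) • ((1 : Localization.Away a) ⊗ₜ[A] (a • q)) := by
      rw [← smul_tmul, smul_tmul', smul_eq_mul, Algebra.smul_def, mul_one, mul_assoc, IsUnit.val_inv_mul,
        mul_one]
    rw [h1]
    refine Submodule.smul_mem _ _ ?_
    clear h1
    generalize a • q = y at hq
    induction hq using Submodule.span_induction with
    | mem z hz => obtain ⟨i, rfl⟩ := hz; exact Submodule.subset_span ⟨i, rfl⟩
    | zero => simp
    | add x y _ _ hx hy => rw [tmul_add]; exact add_mem hx hy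
    | smul s x _ hx =>
      rw [← smul_tmul, Algebra.smul_def, mul_one, show algebraMap A (Localization.Away a) s ⊗ₜ[A] x =
        algebraMap A (Localization.Away a) s • ((1 : Localization.Away a) ⊗ₜ[A] x) by
          rw [smul_tmul', smul_eq_mul, mul_one]]
      exact Submodule.smul_mem _ _ hx
  | add x y hx hy => exact add_mem (hx trivial) (hy trivial)

theorem exists_inChart_of_isField (hA : IsField A) (N : Grassmannian A (A ⊗[R] B) d) :
    ∃ b : Fin d → B, InChart b N := by
  letI := hA.toField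
  let Q := (A ⊗[R] B) ⧸ N.toSubmodule
  let s : Set Q := Set.range fun w : B => N.toSubmodule.mkQ ((1 : A) ⊗ₜ[R] w)
  have hs : Submodule.span A s = ⊤ := by
    refine eq_top_iff.2 fun q _ => ?_
    obtain ⟨x, rfl⟩ := Submodule.mkQ_surjective _ q
    induction x with
    | zero => simp
    | tmul a w =>
      rw [show a ⊗ₜ[R] w = a • ((1 : A) ⊗ₜ[R] w) by rw [smul_tmul', smul_eq_mul, mul_one], map_smul]
      exact Submodule.smul_mem _ _ (Submodule.subset_span ⟨w, rfl⟩)
    | add x y hx hy => rw [map_add]; exact add_mem (hx trivial) (hy trivial)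
  have hd : Module.finrank A Q = d := by
    have := N.rankAtStalk_eq ⟨⊥, Ideal.isPrime_bot⟩
    rwa [Module.rankAtStalk_eq_finrank_of_free] at this
  obtain ⟨g, hg, hspan, -⟩ := Submodule.exists_fun_fin_finrank_span_eq A s
  have hc : Module.finrank A (Submodule.span A s) = d := by rw [hs, finrank_top, hd]
  choose w hw using fun i => hg i
  refine ⟨fun i => w (Fin.cast hc.symm i), inChart_iff_span.2 ?_⟩
  refine Eq.trans ?_ (hspan.trans hs)
  congr 1
  ext q
  constructor
  · rintro ⟨i, rfl⟩; exact ⟨_, (hw _).symm⟩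
  · rintro ⟨i, rfl⟩; exact ⟨Fin.cast hc i, hw i⟩

/-- The relations of the chart ring. -/
def rel (b : Fin d → B) : Set (MvPolynomial (B × Fin d) R) :=
  (Set.range fun t : B × B × Fin d =>
      MvPolynomial.X (t.1 + t.2.1, t.2.2) - (MvPolynomial.X (t.1, t.2.2) + MvPolynomial.X (t.2.1, t.2.2))) ∪
  (Set.range fun t : R × B × Fin d =>
      MvPolynomial.X (t.1 • t.2.1, t.2.2) - MvPolynomial.C t.1 * MvPolynomial.X (t.2.1, t.2.2)) ∪
  (Set.range fun t : Fin d × Fin d =>
      MvPolynomial.X (b t.1, t.2) - (Pi.single t.1 (1 : MvPolynomial (B × Fin d) R) : Fin d → _) t.2) ∪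
  (Set.range fun t : B × B × Fin d =>
      MvPolynomial.X (t.1 * t.2.1, t.2.2) -
        ∑ i, MvPolynomial.X (t.2.1, i) * MvPolynomial.X (t.1 * b i, t.2.2))

/-- The chart ring. -/
abbrev ChartRing (R : Type u) [CommRing R] {B : Type u} [CommRing B] [Algebra R B] {d : ℕ} (b : Fin d → B) : Type u :=
  MvPolynomial (B × Fin d) R ⧸ Ideal.span (rel (R := R) b)

variable (R) in
/-- The universal coordinates. -/
noncomputable def univCoord (b : Fin d → B) : Coord R (ChartRing R b) b where
  c :=
    { toFun w j := Ideal.Quotient.mk (Ideal.span (rel (R := R) b)) (MvPolynomial.X (w, j))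
      map_add' v w := funext fun j => Ideal.Quotient.eq.2
        (Ideal.subset_span (Or.inl (Or.inl (Or.inl ⟨(v, w, j), rfl⟩))))
      map_smul' r w := funext fun j => by
        show Ideal.Quotient.mk (Ideal.span (rel (R := R) b)) (MvPolynomial.X (r • w, j)) = r • Ideal.Quotient.mk (Ideal.span (rel (R := R) b)) (MvPolynomial.X (w, j))
        rw [Algebra.smul_def r (Ideal.Quotient.mk (Ideal.span (rel (R := R) b)) (MvPolynomial.X (w, j))), IsScalarTower.algebraMap_apply R (MvPolynomial (B × Fin d) R) (ChartRing R b),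
          Ideal.Quotient.algebraMap_eq, ← map_mul, MvPolynomial.algebraMap_eq]
        exact Ideal.Quotient.eq.2 (Ideal.subset_span (Or.inl (Or.inl (Or.inr ⟨(r, w, j), rfl⟩)))) }
  c_base i := funext fun j => by
    show Ideal.Quotient.mk (Ideal.span (rel (R := R) b)) (MvPolynomial.X (b i, j)) = _
    have : (Pi.single i (1 : ChartRing R b) : Fin d → _) j =
        Ideal.Quotient.mk (Ideal.span (rel (R := R) b)) ((Pi.single i (1 : MvPolynomial (B × Fin d) R) : Fin d → _) j) := by
      simp [Pi.single_apply, apply_ite (Ideal.Quotient.mk (Ideal.span (rel (R := R) b)))]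
    rw [this]
    exact Ideal.Quotient.eq.2 (Ideal.subset_span (Or.inl (Or.inr ⟨(i, j), rfl⟩)))
  c_mul v w := funext fun j => by
    rw [Finset.sum_apply]
    show Ideal.Quotient.mk (Ideal.span (rel (R := R) b)) (MvPolynomial.X (v * w, j)) = ∑ i, Ideal.Quotient.mk (Ideal.span (rel (R := R) b)) _ * Ideal.Quotient.mk (Ideal.span (rel (R := R) b)) _
    simp only [← map_mul, ← map_sum]
    exact Ideal.Quotient.eq.2 (Ideal.subset_span (Or.inr ⟨(v, w, j), rfl⟩))

/-- The classifying homomorphism of coordinates. -/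
theorem existsUnique_coord (c : Coord R A b) :
    ∃! χ : ChartRing R b →ₐ[R] A, (univCoord R b).map χ = c := by
  let ev : MvPolynomial (B × Fin d) R →ₐ[R] A := MvPolynomial.aeval fun p => c.c p.1 p.2
  have hev : ∀ g ∈ Ideal.span (rel (R := R) b), ev g = 0 := by
    suffices Ideal.span (rel (R := R) b) ≤ RingHom.ker ev by exact fun g hg => this hg
    rw [Ideal.span_le]
    rintro g (((⟨⟨v, w, j⟩, rfl⟩ | ⟨⟨r, w, j⟩, rfl⟩) | ⟨⟨i, j⟩, rfl⟩) | ⟨⟨v, w, j⟩, rfl⟩) <;>
      rw [SetLike.mem_coe, RingHom.mem_ker]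
    · simp [ev]
    · simp [ev, ← Algebra.smul_def, map_smul]
    · simp only [ev, map_sub, MvPolynomial.aeval_X, c.c_base, sub_eq_zero]
      simp [Pi.single_apply, apply_ite (MvPolynomial.aeval fun p : B × Fin d => c.c p.1 p.2)]
    · simp [ev, c.c_mul v w, Finset.sum_apply]
  refine ⟨Ideal.Quotient.liftₐ _ ev hev, Coord.ext (LinearMap.ext fun w => funext fun j => ?_), fun χ hχ => ?_⟩
  · show Ideal.Quotient.liftₐ _ ev hev (Ideal.Quotient.mk _ (MvPolynomial.X (w, j))) = _
    simp [ev]
  · refine Ideal.Quotient.algHom_ext _ (MvPolynomial.algHom_ext fun p => ?_)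
    show χ (Ideal.Quotient.mk _ (MvPolynomial.X p)) = Ideal.Quotient.liftₐ _ ev hev (Ideal.Quotient.mk _ _)
    simp only [Ideal.Quotient.liftₐ_apply, Ideal.Quotient.lift_mk]
    show _ = ev _
    rw [show ev (MvPolynomial.X p) = c.c p.1 p.2 from MvPolynomial.aeval_X _ _, ← hχ]
    rfl

end Alg

open Groth.Agent.Synt29.RepOpen in
/-- The functor of stable points. -/
noncomputable def func (R : Type u) [CommRing R] (B : Type u) [CommRing B] [Algebra R B] (d : ℕ) :
    CommAlgCat.{u} R ⥤ Type u where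
  obj A := {N : Grassmannian A (A ⊗[R] B) d // Stab (R := R) N.toSubmodule}
  map f := ↾fun N => ⟨Grassmannian.map f.hom N.1, stab_map f.hom N.2⟩
  map_id A := ConcreteCategory.hom_ext _ _ fun N => Subtype.ext (Grassmannian.map_id d A N.1)
  map_comp f g := ConcreteCategory.hom_ext _ _ fun N => Subtype.ext (Grassmannian.map_comp d f.hom g.hom N.1)

open Groth.Agent.Synt29.RepOpen in
/-- The chart of `b`. -/
noncomputable def chart (b : Fin d → B) : Chart (func R B d) where
  P _ N := InChart b N.1
  C := CommAlgCat.of R (ChartRing R b)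
  univ := ⟨(univCoord R b).graph, (univCoord R b).graph_stab⟩
  mem_univ := (univCoord R b).graph_inChart
  map_mem {A C} φ {N} h := inChart_map φ.hom N.2 h
  lift {A N} h := by
    obtain ⟨c, hc⟩ := InChart.exists_coord h N.2
    obtain ⟨χ, hχ, huniq⟩ := existsUnique_coord c
    refine ⟨CommAlgCat.ofHom χ, Subtype.ext ?_, fun φ hφ => CommAlgCat.hom_ext (huniq φ.hom ?_)⟩
    · show Grassmannian.map χ (univCoord R b).graph = N.1
      rw [map_graph, hχ, hc]
    · refine Coord.graph_injective ?_
      rw [← map_graph, hc]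
      exact congrArg Subtype.val hφ
  isOpen x L hL ψ h := exists_away_inChart L hL ψ.hom h

open Groth.Agent.Synt29.RepOpen in
/-- The atlas of the functor. -/
noncomputable def atlas : GlueBig.Atlas (func R B d) where
  idx := Fin d → B
  chart := chart
  principal i j A x h := by
    obtain ⟨c, hc⟩ := InChart.exists_coord h x.2
    refine ⟨(Matrix.of fun k l => c.c (j k) l).det, fun C φ => ?_⟩
    show InChart j (Grassmannian.map φ.hom x.1) ↔ _
    rw [← hc, map_graph, inChart_iff_isUnit_det, AlgHom.map_det]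
    rfl
  cover L hL x := exists_inChart_of_isField hL x.1
  sep A s hs x y h := Subtype.ext (GrassMod.eq_of_local s hs fun a ha => congrArg Subtype.val (h a ha))
  glue A s hs xs hcompat := by
    obtain ⟨G, hmem, hG⟩ := GrassMod.exists_glue s hs (fun h hh => (xs h hh).1)
      (fun h hh h' hh' C _ _ φ ψ e => congrArg Subtype.val
        (hcompat h hh h' hh' (CommAlgCat.of R C) (CommAlgCat.ofHom φ) (CommAlgCat.ofHom ψ) (CommAlgCat.hom_ext e)))
    refine ⟨⟨G, fun v x hx => (hmem _).2 fun h hh => ?_⟩, fun h hh => Subtype.ext (hG h hh)⟩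
    rw [ι_mul, ι_one_tmul]
    exact (xs h hh).2 v _ ((hmem x).1 hx h hh)

end Groth.Agent.HilbDLib.AffChart
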