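import Mathlib.RingTheory.Flat.EquationalCriterion
import Mathlib.Algebra.DualNumber

/-!
# Flatness over dual numbers
-/

universe u v

open TrivSqZeroExt

namespace HilbDLib

variable {A : Type u} [CommRing A]

theorem eq_inl_add_eps (b : DualNumber A) : b = inl b.fst + inl b.snd * DualNumber.eps := by
  ext <;> simp

variable {M : Type v} [AddCommGroup M] [Module (DualNumber A) M]
  {M₀ : Type*} [AddCommGroup M₀] [Module A M₀] (π : M →+ M₀) (hπ : Function.Surjective π)
  (hπs : ∀ (a : A) (x : M), π ((inl a : DualNumber A) • x) = a • π x)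
  (hker : ∀ x, π x = 0 ↔ ∃ y, (DualNumber.eps : DualNumber A) • y = x)

theorem eps_smul_eps (y : M) : (DualNumber.eps : DualNumber A) • (DualNumber.eps : DualNumber A) • y = 0 := by
  rw [smul_smul, DualNumber.eps_mul_eps, zero_smul]

include hπ hπs hker in
/-- A module over the dual numbers is flat if its reduction is flat and `ker ε = εM`. -/
theorem flat_of_reduction [Module.Flat A M₀]
    (hann : ∀ x : M, (DualNumber.eps : DualNumber A) • x = 0 → ∃ y, (DualNumber.eps : DualNumber A) • y = x) :
    Module.Flat (DualNumber A) M := by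
  classical
  set eta : DualNumber A := DualNumber.eps with heta
  have heps : ∀ y : M, π (eta • y) = 0 := fun y => (hker _).mpr ⟨y, rfl⟩
  have hπb : ∀ (b : DualNumber A) (x : M), π (b • x) = b.fst • π x := by
    intro b x
    conv_lhs => rw [eq_inl_add_eps b, add_smul, mul_smul, map_add]
    rw [hπs, hπs, heps, smul_zero, add_zero]
  rw [Module.Flat.iff_forall_isTrivialRelation]
  intro n b x hx
  have h1 : ∑ i, (b i).fst • π (x i) = 0 := by
    have := congrArg π hx
    simpa only [map_sum, hπb, map_zero] using this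
  obtain ⟨k, e, y₀, hy₀, he⟩ := Module.Flat.isTrivialRelation_of_sum_smul_eq_zero h1
  choose y hy using fun j => hπ (y₀ j)
  have hz : ∀ i, ∃ z, eta • z = x i - ∑ j, (inl (e i j) : DualNumber A) • y j := fun i => by
    refine (hker _).mp ?_
    simp only [map_sub, map_sum, hπs, hy, hy₀ i, sub_self]
  choose z hz using hz
  have hx' : ∀ i, x i = ∑ j, (inl (e i j) : DualNumber A) • y j + eta • z i := fun i => by
    rw [hz i]; abel
  let d : Fin k → A := fun j => ∑ i, (b i).snd * e i j
  have hcol : ∀ j, ∑ i, b i * inl (e i j) = inl (d j) * eta := by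
    intro j
    refine TrivSqZeroExt.ext ?_ ?_
    · simp [heta, TrivSqZeroExt.fst_sum, he j]
    · simp [heta, TrivSqZeroExt.snd_sum, d, mul_comm]
  have hbe : ∀ i, b i * eta = inl (b i).fst * eta := fun i => by ext <;> simp [heta]
  have hw : eta • (∑ j, (inl (d j) : DualNumber A) • y j + ∑ i, (inl (b i).fst : DualNumber A) • z i) = 0 := by
    rw [← hx]
    simp only [hx', smul_add, Finset.smul_sum, Finset.sum_add_distrib, smul_smul, hbe]
    congr 1
    · rw [Finset.sum_comm]
      refine Finset.sum_congr rfl fun j _ => ?_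
      rw [← Finset.sum_smul, hcol j, mul_comm]
    · exact Finset.sum_congr rfl fun i _ => by rw [mul_comm]
  obtain ⟨w₁, hw₁⟩ := hann _ hw
  let f₂ : Fin k ⊕ Fin n → A := Sum.elim d fun i => (b i).fst
  let x₂ : Fin k ⊕ Fin n → M₀ := Sum.elim (fun j => π (y j)) fun i => π (z i)
  have h2 : ∑ s, f₂ s • x₂ s = 0 := by
    have := congrArg π hw₁.symm
    rw [heps] at this
    simpa [Fintype.sum_sum_type, f₂, x₂, hπs] using this
  obtain ⟨l, g, w₀, hw₀, hg⟩ := Module.Flat.isTrivialRelation_of_sum_smul_eq_zero h2
  choose w hww using fun t => hπ (w₀ t)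
  have hlift : ∀ s (v : M), π v = x₂ s →
      ∃ r, v = ∑ t, (inl (g s t) : DualNumber A) • w t + eta • r := by
    intro s v hv
    have : π (v - ∑ t, (inl (g s t) : DualNumber A) • w t) = 0 := by
      simp only [map_sub, map_sum, hπs, hww, hv, hw₀ s, sub_self]
    obtain ⟨r, hr⟩ := (hker _).mp this
    exact ⟨r, by rw [hr]; abel⟩
  choose u hu using fun j => hlift (Sum.inl j) (y j) rfl
  choose r hr using fun i => hlift (Sum.inr i) (z i) rfl
  let E : Fin n → Fin l ⊕ Fin k → DualNumber A := fun i =>
    Sum.elim (fun t => (∑ j, inl (e i j) * inl (g (Sum.inl j) t)) + eta * inl (g (Sum.inr i) t))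
      (fun j => eta * inl (e i j))
  let W : Fin l ⊕ Fin k → M := Sum.elim w u
  refine ⟨Fintype.card (Fin l ⊕ Fin k), fun i c => E i ((Fintype.equivFin _).symm c),
    fun c => W ((Fintype.equivFin _).symm c), fun i => ?_, fun c => ?_⟩
  · rw [(Fintype.equivFin (Fin l ⊕ Fin k)).symm.sum_comp (fun s => E i s • W s), Fintype.sum_sum_type,
      hx' i]
    simp only [E, W, Sum.elim_inl, Sum.elim_inr]
    rw [hr i]
    simp only [hu, smul_add, Finset.smul_sum, add_smul, Finset.sum_smul, Finset.sum_add_distrib,
      smul_smul]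
    rw [show eta * eta = 0 from DualNumber.eps_mul_eps, zero_smul, add_zero,
      Finset.sum_comm (f := fun t j => (inl (e i j) * inl (g (Sum.inl j) t) : DualNumber A) • w t)]
    simp only [mul_comm eta]
    abel
  · obtain ⟨s, rfl⟩ := (Fintype.equivFin (Fin l ⊕ Fin k)).surjective c
    simp only [Equiv.symm_apply_apply]
    rcases s with t | j
    · have hg' := hg t
      simp only [Fintype.sum_sum_type, f₂, Sum.elim_inl, Sum.elim_inr] at hg'
      simp only [E, Sum.elim_inl, mul_add, Finset.mul_sum, Finset.sum_add_distrib, ← mul_assoc]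
      rw [Finset.sum_comm]
      simp only [← Finset.sum_mul, hcol, hbe]
      ext
      · simp [heta, TrivSqZeroExt.fst_sum]
      · simpa [heta, TrivSqZeroExt.snd_sum] using hg'
    · simp only [E, Sum.elim_inr, ← mul_assoc, hbe]
      ext
      · simp [heta, TrivSqZeroExt.fst_sum]
      · simp [heta, TrivSqZeroExt.snd_sum, he j]

/-- A flat module over the dual numbers has `ker ε = εM`. -/
theorem exists_eps_smul_of_flat [Module.Flat (DualNumber A) M] (x : M)
    (hx : (DualNumber.eps : DualNumber A) • x = 0) : ∃ y, (DualNumber.eps : DualNumber A) • y = x := by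
  obtain ⟨k, a, y, hy, ha⟩ := Module.Flat.isTrivialRelation_of_sum_smul_eq_zero
    (f := fun _ : Fin 1 => (DualNumber.eps : DualNumber A)) (x := fun _ => x) (by simpa using hx)
  have : ∀ j, a 0 j = DualNumber.eps * inl (a 0 j).snd := fun j => by
    have h := congrArg TrivSqZeroExt.snd (ha j)
    simp at h
    ext <;> simp [h]
  refine ⟨∑ j, (inl (a 0 j).snd : DualNumber A) • y j, ?_⟩
  rw [Finset.smul_sum]
  refine Eq.trans ?_ (hy 0).symm
  exact Finset.sum_congr rfl fun j _ => by rw [smul_smul, ← this]

end HilbDLib
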