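import Groth.Agent.HilbDLib.ClosedSub
import Groth.Agent.DescLib.IdealDescent
import Groth.Agent.EtFound.Descent
import Groth.Agent.AlgSpLib.Descends

/-!
# The Hilbert functor is an fpqc sheaf
-/

set_option autoImplicit false
set_option linter.style.haveILetI false

universe u
open CategoryTheory CategoryTheory.Limits AlgebraicGeometry MorphismProperty

namespace Groth.Agent.HilbDLib

variable {X S : Scheme.{u}} (f : X ⟶ S) (d : ℕ) (T : Over S) {T' : Scheme.{u}} (g : T' ⟶ T.left)
  [QuasiCompact g] [Flat g] [Surjective g]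

theorem coverHom_flat_surjective :
    Flat (PicF.XTmap f (HilbD.coverHom T g)) ∧ Surjective (PicF.XTmap f (HilbD.coverHom T g)) ∧
      QuasiCompact (PicF.XTmap f (HilbD.coverHom T g)) :=
  ⟨MorphismProperty.of_isPullback (P := @Flat) (isPullback_XTmap f (HilbD.coverHom T g)).flip (inferInstanceAs (Flat g)),
    MorphismProperty.of_isPullback (P := @Surjective) (isPullback_XTmap f (HilbD.coverHom T g)).flip (inferInstanceAs (Surjective g)),
    MorphismProperty.of_isPullback (P := @QuasiCompact) (isPullback_XTmap f (HilbD.coverHom T g)).flip (inferInstanceAs (QuasiCompact g))⟩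

theorem finLocFreeOfDeg_of_pull (I : (PicF.XT f T).IdealSheafData)
    (h : Mor2.IsFinLocFreeOfDeg d ((HilbD.pull f (HilbD.coverHom T g) I).subschemeι ≫ PicF.XTproj f (HilbD.coverOver T g))) :
    Mor2.IsFinLocFreeOfDeg d (I.subschemeι ≫ PicF.XTproj f T) := by
  let gg := HilbD.coverHom T g
  let π := I.subschemeι ≫ PicF.XTproj f T
  let s := pullback.fst (PicF.XTmap f gg) I.subschemeι
  have H : IsPullback (pullback.snd (PicF.XTmap f gg) I.subschemeι) (s ≫ PicF.XTproj f (HilbD.coverOver T g)) π g :=
    (IsPullback.of_hasPullback (PicF.XTmap f gg) I.subschemeι).flip.paste_vert (isPullback_XTmap f gg)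
  rw [pull_eq_comap, show I.comap (PicF.XTmap f gg) = s.ker from rfl, finLocFreeOfDeg_ker] at h
  obtain ⟨⟨h1, h2, h3⟩, h4⟩ := h
  have hg : (@Surjective ⊓ @Flat ⊓ @QuasiCompact : MorphismProperty Scheme.{u}) g :=
    ⟨⟨inferInstance, inferInstance⟩, inferInstance⟩
  have := EtFound.fpqc_isFinite.{u}
  refine ⟨⟨of_isPullback_of_descendsAlong (P := @IsFinite) H.flip hg h1,
    of_isPullback_of_descendsAlong (P := @Flat) H.flip hg h2,
    of_isPullback_of_descendsAlong (P := @LocallyOfFinitePresentation) H.flip hg h3⟩, fun y => ?_⟩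
  haveI : IsFinite π := of_isPullback_of_descendsAlong (P := @IsFinite) H.flip hg h1
  haveI : Flat π := of_isPullback_of_descendsAlong (P := @Flat) H.flip hg h2
  haveI : LocallyOfFinitePresentation π := of_isPullback_of_descendsAlong (P := @LocallyOfFinitePresentation) H.flip hg h3
  obtain ⟨y', rfl⟩ := g.surjective y
  have e := h4 y'
  rw [← H.isoPullback_hom_snd, Scheme.Hom.finrank_comp_left_of_isIso, Scheme.Hom.finrank_pullback_snd] at e
  exact e

theorem sheaf_fpqc (Z' : HilbD.Obj f d (HilbD.coverOver T g))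
    (hZ' : HilbD.pull f (HilbD.overlapFst T g) Z'.1 = HilbD.pull f (HilbD.overlapSnd T g) Z'.1) :
    ∃! I : (PicF.XT f T).IdealSheafData, Mor2.IsFinLocFreeOfDeg d (I.subschemeι ≫ PicF.XTproj f T) ∧
      HilbD.pull f (HilbD.coverHom T g) I = Z'.1 := by
  let p := PicF.XTmap f (HilbD.coverHom T g)
  obtain ⟨hp1, hp2, hp3⟩ := coverHom_flat_surjective f T g
  have hcov : Presieve.ofArrows (fun _ : PUnit.{u + 1} => PicF.XT f (HilbD.coverOver T g)) (fun _ => p) ∈
      Scheme.fpqcPrecoverage (PicF.XT f T) := by
    rw [Presieve.ofArrows_pUnit]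
    exact p.singleton_mem_fpqcPrecoverage
  have hov : (Z'.1).comap (pullback.fst p p) = (Z'.1).comap (pullback.snd p p) := by
    have hc : (pullback.fst p p ≫ PicF.XTproj f (HilbD.coverOver T g)) ≫ g =
        (pullback.snd p p ≫ PicF.XTproj f (HilbD.coverOver T g)) ≫ g := by
      have hw : p ≫ PicF.XTproj f T = PicF.XTproj f (HilbD.coverOver T g) ≫ g := (isPullback_XTmap f (HilbD.coverHom T g)).w
      rw [Category.assoc, Category.assoc, ← hw, pullback.condition_assoc]
    let t := pullback.lift _ _ hc
    have ha : (pullback.fst p p ≫ pullback.fst f (HilbD.coverOver T g).hom) ≫ f = t ≫ (HilbD.overlapOver T g).hom := by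
      show _ = t ≫ (pullback.fst g g ≫ g) ≫ T.hom
      rw [Category.assoc, pullback.condition, ← Category.assoc t, ← Category.assoc t, pullback.lift_fst]
      simp only [Category.assoc]
      rfl
    let m : pullback p p ⟶ PicF.XT f (HilbD.overlapOver T g) := pullback.lift _ t ha
    have e1 : m ≫ PicF.XTmap f (HilbD.overlapFst T g) = pullback.fst p p := by
      apply pullback.hom_ext
      · simp only [PicF.XTmap, Category.assoc, pullback.lift_fst, Category.comp_id]
        exact pullback.lift_fst _ _ _
      · simp only [PicF.XTmap, Category.assoc, pullback.lift_snd]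
        show m ≫ pullback.snd _ _ ≫ pullback.fst g g = _
        rw [← Category.assoc, pullback.lift_snd, pullback.lift_fst]
    have hp : ∀ q : pullback p p ⟶ PicF.XT f (HilbD.coverOver T g),
        q ≫ pullback.fst f (HilbD.coverOver T g).hom = q ≫ p ≫ pullback.fst f T.hom := fun q => by
      simp only [p, PicF.XTmap, pullback.lift_fst, Category.comp_id]
    have e2 : m ≫ PicF.XTmap f (HilbD.overlapSnd T g) = pullback.snd p p := by
      apply pullback.hom_ext
      · simp only [PicF.XTmap, Category.assoc, pullback.lift_fst, Category.comp_id]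
        refine (pullback.lift_fst _ _ _).trans ?_
        rw [hp, hp, pullback.condition_assoc]
      · simp only [PicF.XTmap, Category.assoc, pullback.lift_snd]
        show m ≫ pullback.snd _ _ ≫ pullback.snd g g = _
        rw [← Category.assoc, pullback.lift_snd, pullback.lift_snd]
    have := congrArg (fun I => I.comap m) hZ'
    simp only [pull_eq_comap, ← Scheme.IdealSheafData.comap_comp] at this
    rwa [e1, e2] at this
  obtain ⟨I, hI, huniq⟩ := DescLib.existsUnique_descend_fpqc (fun _ : PUnit.{u + 1} => p) hcov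
    (fun _ => Z'.1) (fun _ _ => hov)
  have hIp : HilbD.pull f (HilbD.coverHom T g) I = Z'.1 := (pull_eq_comap f _ I).trans (hI ⟨⟩)
  refine ⟨I, ⟨finLocFreeOfDeg_of_pull f d T g I (hIp.symm ▸ Z'.2), hIp⟩, fun J hJ => ?_⟩
  exact huniq J fun _ => (pull_eq_comap f _ J).symm.trans hJ.2

end Groth.Agent.HilbDLib
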