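import Mathlib

/-!
# Points of the Grassmannian of an arbitrary module glue
-/

set_option autoImplicit false
set_option backward.isDefEq.respectTransparency false
set_option linter.style.haveILetI false

universe u

open TensorProduct

namespace Groth.Agent.HilbDLib.GrassMod

open Module (Grassmannian)

variable {R : Type u} [CommRing R] {M : Type u} [AddCommGroup M] [Module R M]

section Map

variable {A B : Type u} [CommRing A] [Algebra R A] [CommRing B] [Algebra R B]

/-- The semilinear map between base changes. -/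
noncomputable def ι (φ : A →ₐ[R] B) : A ⊗[R] M →ₗ[R] B ⊗[R] M :=
  φ.toLinearMap.rTensor M

theorem ι_tmul (φ : A →ₐ[R] B) (a : A) (x : M) : ι φ (a ⊗ₜ[R] x) = φ a ⊗ₜ[R] x := rfl

theorem ι_smul (φ : A →ₐ[R] B) (a : A) (x : A ⊗[R] M) : ι φ (a • x) = φ a • ι φ x := by
  induction x with
  | zero => simp
  | tmul a' m => rw [smul_tmul', ι_tmul, ι_tmul, smul_tmul', smul_eq_mul, map_mul, smul_eq_mul]
  | add x y hx hy => rw [smul_add, map_add, map_add, smul_add, hx, hy]

theorem ι_ι {C : Type u} [CommRing C] [Algebra R C] (φ : A →ₐ[R] B) (ψ : B →ₐ[R] C) (x : A ⊗[R] M) :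
    ι ψ (ι φ x) = ι (ψ.comp φ) x := by
  induction x with
  | zero => simp
  | tmul a m => rfl
  | add x y hx hy => simp only [map_add, hx, hy]

theorem span_image_ι (φ : A →ₐ[R] B) (s : Set (A ⊗[R] M)) :
    Submodule.span B (ι φ '' (Submodule.span A s)) = Submodule.span B (ι φ '' s) := by
  refine le_antisymm (Submodule.span_le.2 ?_) (Submodule.span_mono (Set.image_mono Submodule.subset_span))
  rintro _ ⟨x, hx, rfl⟩
  induction hx using Submodule.span_induction with
  | mem z hz => exact Submodule.subset_span ⟨z, hz, rfl⟩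
  | zero => simp
  | add a b _ _ ha hb => rw [map_add]; exact add_mem ha hb
  | smul t a _ ha => rw [ι_smul]; exact Submodule.smul_mem _ _ ha

theorem ι_eq_cancel [Algebra A B] [IsScalarTower R A B] (x : A ⊗[R] M) :
    ι (IsScalarTower.toAlgHom R A B) x = AlgebraTensorModule.cancelBaseChange R A B B M (1 ⊗ₜ[A] x) := by
  induction x with
  | zero => simp
  | tmul a m => simp [ι_tmul, Algebra.smul_def]
  | add x y hx hy => rw [map_add, tmul_add, map_add, hx, hy]

theorem ker_baseChangeMkQ [Algebra A B] [IsScalarTower R A B] (N : Submodule A (A ⊗[R] M)) :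
    LinearMap.ker (Grassmannian.baseChangeMkQ B N) =
      Submodule.span B (ι (IsScalarTower.toAlgHom R A B) '' N) := by
  let φ := IsScalarTower.toAlgHom R A B
  let cbc := AlgebraTensorModule.cancelBaseChange R A B B M
  refine le_antisymm (fun z hz => ?_) (Submodule.span_le.2 ?_)
  · have hz' : (N.mkQ).baseChange B (cbc.symm z) = 0 := hz
    obtain ⟨v, hv⟩ := (lTensor_exact (M := N) B (LinearMap.exact_subtype_mkQ N)
      N.mkQ_surjective (cbc.symm z)).1 hz'
    rw [← cbc.apply_symm_apply z, ← hv]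
    clear hv hz' hz
    induction v with
    | zero => simp
    | tmul b x =>
      rw [LinearMap.lTensor_tmul, show b ⊗ₜ[A] (N.subtype x) = b • ((1 : B) ⊗ₜ[A] (x : A ⊗[R] M)) by
        rw [smul_tmul', smul_eq_mul, mul_one]; rfl, map_smul, ← ι_eq_cancel]
      exact Submodule.smul_mem _ _ (Submodule.subset_span ⟨_, x.2, rfl⟩)
    | add x y hx hy => rw [map_add, map_add]; exact add_mem hx hy
  · rintro _ ⟨x, hx, rfl⟩
    show (N.mkQ).baseChange B (cbc.symm (ι φ x)) = 0
    rw [ι_eq_cancel, LinearEquiv.symm_apply_apply, LinearMap.baseChange_tmul, Submodule.mkQ_apply,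
      (Submodule.Quotient.mk_eq_zero _).2 hx, tmul_zero]

theorem map_eq_span {m : ℕ} (φ : A →ₐ[R] B) (N : Grassmannian A (A ⊗[R] M) m) :
    (Grassmannian.map φ N).toSubmodule = Submodule.span B (ι φ '' N.toSubmodule) := by
  letI : Algebra A B := φ.toRingHom.toAlgebra
  haveI : IsScalarTower R A B := IsScalarTower.of_algebraMap_eq' φ.comp_algebraMap.symm
  have : IsScalarTower.toAlgHom R A B = φ := AlgHom.ext fun _ => rfl
  rw [Grassmannian.map_toSubmodule]
  exact (ker_baseChangeMkQ N.toSubmodule).trans (by rw [this])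

end Map

section Away

variable {A : Type u} [CommRing A] [Algebra R A]

/-- The map to a basic localisation. -/
noncomputable abbrev loc (h : A) : A →ₐ[R] Localization.Away h :=
  IsScalarTower.toAlgHom R A (Localization.Away h)

theorem exists_smul_eq_ι (h : A) (z : Localization.Away h ⊗[R] M) :
    ∃ (k : ℕ) (x : A ⊗[R] M), loc (R := R) h h ^ k • z = ι (loc h) x := by
  induction z with
  | zero => exact ⟨0, 0, by simp⟩
  | tmul t m =>
    obtain ⟨k, a, ha⟩ : ∃ (k : ℕ) (a : A), loc (R := R) h h ^ k * t = loc (R := R) h a := by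
      obtain ⟨⟨a, ⟨_, k, rfl⟩⟩, e⟩ := IsLocalization.surj (Submonoid.powers h) t
      exact ⟨k, a, by rw [← map_pow]; exact (mul_comm _ _).trans e⟩
    exact ⟨k, a ⊗ₜ m, by rw [ι_tmul, smul_tmul', smul_eq_mul, ha]⟩
  | add a b ha hb =>
    obtain ⟨k, x, hx⟩ := ha
    obtain ⟨l, y, hy⟩ := hb
    refine ⟨k + l, h ^ l • x + h ^ k • y, ?_⟩
    rw [map_add, ι_smul, ι_smul, map_pow, map_pow, ← hx, ← hy, smul_smul, smul_smul, smul_add, ← pow_add,
      ← pow_add, add_comm l k]

theorem exists_pow_smul_eq_zero {h : A} {x : A ⊗[R] M} (hx : ι (loc h) x = 0) :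
    ∃ k : ℕ, h ^ k • x = 0 := by
  rw [ι_eq_cancel, LinearEquiv.map_eq_zero_iff] at hx
  obtain ⟨⟨_, k, rfl⟩, e⟩ := (IsLocalizedModule.eq_zero_iff (Submonoid.powers h)
    (TensorProduct.mk A (Localization.Away h) (A ⊗[R] M) 1)).1 hx
  exact ⟨k, e⟩

/-- An element mapping into the extended submodule lies in it after multiplication by a power. -/
theorem exists_pow_smul_mem {h : A} {N : Submodule A (A ⊗[R] M)} {x : A ⊗[R] M}
    (hx : ι (loc h) x ∈ Submodule.span (Localization.Away h) (ι (loc h) '' N)) : ∃ k : ℕ, h ^ k • x ∈ N := by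
  have key : ∀ z ∈ Submodule.span (Localization.Away h) (ι (loc h) '' (N : Set (A ⊗[R] M))),
      ∃ (k : ℕ), ∃ y ∈ N, loc (R := R) h h ^ k • z = ι (loc h) y := by
    intro z hz
    induction hz using Submodule.span_induction with
    | mem z hz => obtain ⟨y, hy, rfl⟩ := hz; exact ⟨0, y, hy, by rw [pow_zero, one_smul]⟩
    | zero => exact ⟨0, 0, N.zero_mem, by simp⟩
    | add a b _ _ ha hb =>
      obtain ⟨k, x, hxN, hx⟩ := ha
      obtain ⟨l, y, hyN, hy⟩ := hb
      refine ⟨k + l, h ^ l • x + h ^ k • y, add_mem (N.smul_mem _ hxN) (N.smul_mem _ hyN), ?_⟩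
      rw [map_add, ι_smul, ι_smul, map_pow, map_pow, ← hx, ← hy, smul_smul, smul_smul, smul_add, ← pow_add,
        ← pow_add, add_comm l k]
    | smul t a _ ha =>
      obtain ⟨k, x, hxN, hx⟩ := ha
      obtain ⟨l, a', ha'⟩ : ∃ (l : ℕ) (a' : A), loc (R := R) h h ^ l * t = loc (R := R) h a' := by
        obtain ⟨⟨a', ⟨_, l, rfl⟩⟩, e⟩ := IsLocalization.surj (Submonoid.powers h) t
        exact ⟨l, a', by rw [← map_pow]; exact (mul_comm _ _).trans e⟩
      refine ⟨k + l, a' • x, N.smul_mem _ hxN, ?_⟩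
      rw [ι_smul, ← ha', ← hx, smul_smul, smul_smul, pow_add]
      ring_nf
  obtain ⟨k, y, hy, e⟩ := key _ hx
  rw [← map_pow, ← ι_smul, ← sub_eq_zero, ← map_sub] at e
  obtain ⟨l, hl⟩ := exists_pow_smul_eq_zero e
  refine ⟨l + k, ?_⟩
  rw [smul_sub, sub_eq_zero, smul_smul, ← pow_add] at hl
  rw [hl]
  exact N.smul_mem _ hy

/-- Membership is local. -/
theorem mem_of_local {N : Submodule A (A ⊗[R] M)} {x : A ⊗[R] M} (s : Set A)
    (hs : Ideal.span s = ⊤) (hx : ∀ h ∈ s, ι (loc h) x ∈
      Submodule.span (Localization.Away h) (ι (loc h) '' N)) : x ∈ N :=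
  Submodule.mem_of_span_eq_top_of_smul_pow_mem N s hs x fun h => exists_pow_smul_mem (hx h h.2)

theorem eq_of_local {m : ℕ} (s : Set A) (hs : Ideal.span s = ⊤) {N N' : Grassmannian A (A ⊗[R] M) m}
    (h : ∀ a ∈ s, Grassmannian.map (loc a) N = Grassmannian.map (loc a) N') : N = N' := by
  refine Grassmannian.ext (le_antisymm (fun x hx => ?_) (fun x hx => ?_)) <;>
  · refine mem_of_local s hs fun a ha => ?_
    have e := congrArg Grassmannian.toSubmodule (h a ha)
    rw [map_eq_span, map_eq_span] at e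
    first
      | (rw [← e]; exact Submodule.subset_span ⟨x, hx, rfl⟩)
      | (rw [e]; exact Submodule.subset_span ⟨x, hx, rfl⟩)

/-- Grassmannian points glue. -/
theorem exists_glue {m : ℕ} (s : Finset A) (hs : Ideal.span (s : Set A) = ⊤)
    (N : ∀ h ∈ s, Grassmannian (Localization.Away h) (Localization.Away h ⊗[R] M) m)
    (hcompat : ∀ (h) (hh : h ∈ s) (h') (hh' : h' ∈ s) (B : Type u) [CommRing B] [Algebra R B]
      (φ : Localization.Away h →ₐ[R] B) (ψ : Localization.Away h' →ₐ[R] B),
      φ.comp (loc h) = ψ.comp (loc h') → Grassmannian.map φ (N h hh) = Grassmannian.map ψ (N h' hh')) :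
    ∃ G : Grassmannian A (A ⊗[R] M) m,
      (∀ x, x ∈ G.toSubmodule ↔ ∀ (h) (hh : h ∈ s), ι (loc h) x ∈ (N h hh).toSubmodule) ∧
      ∀ (h) (hh : h ∈ s), Grassmannian.map (loc h) G = N h hh := by
  classical
  let C : Submodule A (A ⊗[R] M) :=
    { carrier := {x | ∀ (h) (hh : h ∈ s), ι (loc h) x ∈ (N h hh).toSubmodule}
      add_mem' := fun hx hy h hh => by rw [map_add]; exact add_mem (hx h hh) (hy h hh)
      zero_mem' := fun h hh => by rw [map_zero]; exact zero_mem _
      smul_mem' := fun a x hx h hh => by rw [ι_smul]; exact Submodule.smul_mem _ _ (hx h hh) }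
  have key : ∀ (h) (hh : h ∈ s) (z : Localization.Away h ⊗[R] M), z ∈ (N h hh).toSubmodule →
      ∃ (k : ℕ) (x : A ⊗[R] M), x ∈ C ∧ loc (R := R) h h ^ k • z = ι (loc h) x := by
    intro h hh z hz
    obtain ⟨k, x, hx⟩ := exists_smul_eq_ι h z
    have hloc : ∀ (h') (hh' : h' ∈ s), ∃ j : ℕ, ι (loc h') (h ^ j • x) ∈ (N h' hh').toSubmodule := by
      intro h' hh'
      let B := Localization.Away (loc (R := R) h' h)
      let χ' : Localization.Away h' →ₐ[R] B := loc _
      have hu : IsUnit ((χ'.comp (loc h')).toRingHom h) :=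
        IsLocalization.Away.algebraMap_isUnit (S := B) (loc (R := R) h' h)
      let χ : Localization.Away h →ₐ[R] B := IsLocalization.liftAlgHom (M := Submonoid.powers h)
        (f := χ'.comp (loc h')) (fun y => by obtain ⟨i, hi⟩ := y.2; rw [← hi, map_pow]; exact hu.pow i)
      have hχ : χ.comp (loc h) = χ'.comp (loc h') := AlgHom.ext fun x => IsLocalization.lift_eq _ _
      have hmem : ι χ' (ι (loc h') x) ∈ Submodule.span B (ι χ' '' (N h' hh').toSubmodule) := by
        rw [← map_eq_span, ← hcompat h hh h' hh' B χ χ' hχ, map_eq_span, ι_ι, ← hχ, ← ι_ι, ← hx]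
        exact Submodule.subset_span ⟨_, Submodule.smul_mem _ _ hz, rfl⟩
      obtain ⟨j, hj⟩ := exists_pow_smul_mem (R := R) hmem
      refine ⟨j, ?_⟩
      rw [ι_smul, map_pow]
      exact hj
    choose j hj using hloc
    refine ⟨(∑ p : {a // a ∈ s}, j p.1 p.2) + k, h ^ (∑ p : {a // a ∈ s}, j p.1 p.2) • x, fun h' hh' => ?_, ?_⟩
    · have := hj h' hh'
      rw [← Finset.sum_erase_add _ _ (Finset.mem_univ (⟨h', hh'⟩ : {a // a ∈ s})), pow_add, mul_smul, ι_smul]
      exact Submodule.smul_mem _ _ this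
    · rw [ι_smul, pow_add, mul_smul, hx, map_pow]
  have hN : ∀ (h) (hh : h ∈ s), (N h hh).toSubmodule =
      Submodule.span (Localization.Away h) (ι (loc h) '' C) := by
    intro h hh
    refine le_antisymm (fun z hz => ?_) (Submodule.span_le.2 ?_)
    · obtain ⟨k, x, hxC, hx⟩ := key h hh z hz
      have hu : IsUnit (loc (R := R) h h ^ k) :=
        (show IsUnit (loc (R := R) h h) from IsLocalization.Away.algebraMap_isUnit h).pow k
      have : z = (↑hu.unit⁻¹ : Localization.Away h) • ι (loc h) x := by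
        rw [← hx, smul_smul, IsUnit.val_inv_mul, one_smul]
      rw [this]
      exact Submodule.smul_mem _ _ (Submodule.subset_span ⟨x, hxC, rfl⟩)
    · rintro _ ⟨y, hy, rfl⟩
      exact hy h hh
  let Q := (A ⊗[R] M) ⧸ C
  have e : ∀ (h) (hh : h ∈ s), ∃ eq : ((Localization.Away h ⊗[R] M) ⧸ (N h hh).toSubmodule)
      ≃ₗ[Localization.Away h] Localization.Away h ⊗[A] Q, True := fun h hh =>
    ⟨(Submodule.quotEquivOfEq _ _ ((ker_baseChangeMkQ C).trans (hN h hh).symm).symm).trans
      (Grassmannian.baseChangeMkQEquiv C), trivial⟩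
  choose eq _ using e
  have hfin : Module.Finite A Q :=
    Module.Finite.of_localizationSpan_finite' s hs
      (fun h => TensorProduct.mk A (Localization.Away h.1) Q 1)
      (fun h => Module.Finite.equiv (eq h.1 h.2))
  have hproj : ∀ h : (s : Set A), Module.Projective (Localization.Away h.1) (Localization.Away h.1 ⊗[A] Q) :=
    fun h => Module.Projective.of_equiv (eq h.1 h.2)
  have hflat : Module.Flat A Q := by
    refine Module.flat_of_isLocalized_span A Q (s : Set A) hs (fun h => Localization.Away h.1 ⊗[A] Q)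
      (fun h => TensorProduct.mk A (Localization.Away h.1) Q 1) fun h => ?_
    have := hproj h
    exact Module.Flat.trans A (Localization.Away h.1) _
  have hrank : ∀ p, Module.rankAtStalk (R := A) Q p = m := fun p => by
    obtain ⟨h, hh, hp⟩ : ∃ h ∈ s, h ∉ p.asIdeal := by
      by_contra hcon
      push Not at hcon
      exact p.isPrime.ne_top (top_unique (hs ▸ Ideal.span_le.2 hcon))
    obtain ⟨q, rfl⟩ : p ∈ Set.range (PrimeSpectrum.comap (algebraMap A (Localization.Away h))) := by
      rw [PrimeSpectrum.localization_away_comap_range (Localization.Away h) h]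
      exact hp
    rw [← (N h hh).rankAtStalk_eq q, Module.rankAtStalk_eq_of_equiv (eq h hh)]
    exact (Module.rankAtStalk_baseChange (R := A) (M := Q) q).symm
  have : Module.FinitePresentation A Q :=
    Module.FinitePresentation.of_localizationSpan' (s : Set A) hs
      (Rₚ := fun h => Localization.Away h.1)
      (fun h => TensorProduct.mk A (Localization.Away h.1) Q 1) fun h => by
        have := hproj h
        have : Module.Finite (Localization.Away h.1) (Localization.Away h.1 ⊗[A] Q) :=
          Module.Finite.equiv (eq h.1 h.2)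
        exact Module.finitePresentation_of_projective _ _
  have hfp : Module.Projective A Q := Module.Flat.projective_of_finitePresentation
  exact ⟨⟨C, hfin, hfp, hrank⟩, fun x => Iff.rfl, fun h hh => Grassmannian.ext (by
    rw [map_eq_span]; exact (hN h hh).symm)⟩

end Away

end Groth.Agent.HilbDLib.GrassMod
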