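import Groth.Agent.HilbDLib.RepCrit
import Mathlib.AlgebraicGeometry.Sites.Representability

/-!
# The Hilbert functor is representable when covered by representable open subfunctors
-/

set_option autoImplicit false
set_option backward.isDefEq.respectTransparency false
set_option linter.style.haveILetI false
set_option maxHeartbeats 200000

universe u
open CategoryTheory CategoryTheory.Limits AlgebraicGeometry Opposite

namespace Groth.Agent.HilbDLib.OpenRep

open Groth.Agent.HilbDLib.RepCrit (pullObj existsUnique_glue)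

variable {X S : Scheme.{u}} (f : X ⟶ S) (d : ℕ)

/-- A morphism of schemes as a morphism over `S`. -/
noncomputable abbrev hom {T T' : Scheme.{u}} (a : T' ⟶ T) (g : T ⟶ S) : Over.mk (a ≫ g) ⟶ Over.mk g :=
  Over.homMk a rfl

/-- The Hilbert functor as a presheaf on all schemes. -/
noncomputable def pre : Scheme.{u}ᵒᵖ ⥤ Type u where
  obj T := Σ g : T.unop ⟶ S, HilbD.Obj f d (Over.mk g)
  map a := ↾fun p => ⟨a.unop ≫ p.1, pullObj f d (hom a.unop p.1) p.2⟩
  map_id T := by
    refine ConcreteCategory.hom_ext _ _ fun p => ?_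
    obtain ⟨g, Z⟩ := p
    have key : ∀ (g' : T.unop ⟶ S) (h : g' = g) (w : Over.mk g' ⟶ Over.mk g) (_ : w.left = 𝟙 _),
        (⟨g', pullObj f d w Z⟩ : Σ g : T.unop ⟶ S, HilbD.Obj f d (Over.mk g)) = ⟨g, Z⟩ := by
      rintro g' rfl w hw
      rw [show w = 𝟙 _ from Over.OverMorphism.ext hw]
      congr 1
      exact Subtype.ext (pull_id f Z.1)
    exact key _ (Category.id_comp g) _ rfl
  map_comp a b := by
    refine ConcreteCategory.hom_ext _ _ fun p => ?_
    obtain ⟨g, Z⟩ := p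
    have key : ∀ {T' T : Scheme.{u}} (g₁ g₂ : T' ⟶ S) (g₀ : T ⟶ S) (h : g₁ = g₂) (v : Over.mk g₁ ⟶ Over.mk g₀)
        (w : Over.mk g₂ ⟶ Over.mk g₀) (_ : v.left = w.left) (Z : HilbD.Obj f d (Over.mk g₀)),
        (⟨g₁, pullObj f d v Z⟩ : Σ g : T' ⟶ S, HilbD.Obj f d (Over.mk g)) = ⟨g₂, pullObj f d w Z⟩ := by
      rintro T' T g₁ g₂ g₀ rfl v w hvw Z
      rw [show v = w from Over.OverMorphism.ext hvw]
    refine (key _ _ g (Category.assoc b.unop a.unop g) _
      (hom b.unop (a.unop ≫ g) ≫ hom a.unop g) rfl Z).trans ?_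
    show (⟨_, _⟩ : Σ g, HilbD.Obj f d (Over.mk g)) = ⟨_, _⟩
    congr 1
    exact Subtype.ext (pull_pull f _ _ Z.1).symm

theorem pre_map {T T' : Scheme.{u}} (a : T' ⟶ T) (p : (pre f d).obj (op T)) :
    (pre f d).map a.op p = ⟨a ≫ p.1, pullObj f d (hom a p.1) p.2⟩ := rfl

theorem eq_iff {T : Scheme.{u}} (p q : (pre f d).obj (op T)) :
    p = q ↔ ∃ h : p.1 = q.1, ∀ (w : Over.mk p.1 ⟶ Over.mk q.1), w.left = 𝟙 _ →
      HilbD.pull f w q.2.1 = p.2.1 := by
  constructor
  · rintro rfl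
    refine ⟨rfl, fun w hw => ?_⟩
    rw [show w = 𝟙 _ from Over.OverMorphism.ext hw, pull_id]
  · obtain ⟨g, Z⟩ := p
    obtain ⟨g', Z'⟩ := q
    rintro ⟨h, hh⟩
    dsimp only at h
    subst h
    congr 1
    have := hh (𝟙 _) rfl
    rw [pull_id] at this
    exact Subtype.ext this.symm

theorem isSheafFor_cover {Y : Scheme.{u}} (𝒰 : Scheme.OpenCover.{u} Y) :
    Presieve.IsSheafFor (pre f d) (Presieve.ofArrows 𝒰.X 𝒰.f) := by
  rw [Presieve.isSheafFor_arrows_iff]
  intro x hx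
  have hc : ∀ i j, pullback.fst (𝒰.f i) (𝒰.f j) ≫ (x i).1 = pullback.snd (𝒰.f i) (𝒰.f j) ≫ (x j).1 := fun i j =>
    congrArg Sigma.fst (hx _ _ _ (pullback.fst (𝒰.f i) (𝒰.f j)) (pullback.snd (𝒰.f i) (𝒰.f j)) pullback.condition)
  let g : Y ⟶ S := 𝒰.glueMorphisms (fun i => (x i).1) hc
  have hg : ∀ i, 𝒰.f i ≫ g = (x i).1 := fun i => 𝒰.ι_glueMorphisms _ hc i
  let T : Over S := Over.mk g
  let u : ∀ i, HilbD.coverOver T (𝒰.f i) ⟶ Over.mk (x i).1 := fun i =>
    Over.homMk (𝟙 _) ((Category.id_comp _).trans (hg i).symm)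
  obtain ⟨Z, hZ, huniq⟩ := existsUnique_glue f d (T := T) 𝒰 (fun i => pullObj f d (u i) (x i).2)
    (fun i j T' a b hab => by
      obtain ⟨h, hh⟩ := (eq_iff f d _ _).1 (hx _ _ _ a.left b.left (congrArg CommaMorphism.left hab))
      let c : T' ⟶ Over.mk (a.left ≫ (x i).1) := Over.homMk (𝟙 _) (by
        show 𝟙 _ ≫ a.left ≫ _ = T'.hom
        rw [Category.id_comp, ← hg i]
        exact Over.w a)
      let e : Over.mk (a.left ≫ (x i).1) ⟶ Over.mk (b.left ≫ (x j).1) := Over.homMk (𝟙 _) (by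
        show 𝟙 _ ≫ b.left ≫ _ = _
        rw [Category.id_comp]
        exact h.symm)
      have := congrArg (fun I => HilbD.pull f c I) (hh e rfl)
      simp only [pre_map, pullObj, pull_pull] at this ⊢
      refine Eq.trans ?_ (this.symm.trans ?_)
      · congr 1
      · congr 1)
  refine ⟨⟨g, Z⟩, fun i => ?_, fun p hp => ?_⟩
  · rw [pre_map, eq_iff]
    refine ⟨hg i, fun w hw => ?_⟩
    show HilbD.pull f w (x i).2.1 = HilbD.pull f (hom (𝒰.f i) g) Z.1
    have h2 : HilbD.pull f (HilbD.coverHom T (𝒰.f i)) Z.1 = HilbD.pull f (u i) (x i).2.1 :=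
      congrArg Subtype.val (hZ i)
    rw [show w = (u i : Over.mk (𝒰.f i ≫ g) ⟶ _) from Over.OverMorphism.ext hw]
    exact h2.symm
  · obtain ⟨g', Z'⟩ := p
    obtain rfl : g' = g := 𝒰.hom_ext _ _ fun i => (congrArg Sigma.fst (hp i)).trans (hg i).symm
    congr 1
    refine huniq Z' fun i => ?_
    obtain ⟨_, hh⟩ := (eq_iff f d _ _).1 (hp i)
    exact Subtype.ext (hh (u i) rfl).symm

theorem isSheaf : Presieve.IsSheaf Scheme.zariskiTopology (pre f d) := by
  intro Y S hS
  obtain ⟨𝒰, h𝒰⟩ := Scheme.mem_grothendieckTopology_iff.1 hS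
  refine Presieve.isSheafFor_subsieve (pre f d) (S := Sieve.generate (Presieve.ofArrows 𝒰.X 𝒰.f)) ?_ fun Y' a => ?_
  · rintro Z k ⟨W, l, m, hm, rfl⟩
    exact S.downward_closed (h𝒰 _ _ hm) l
  · rw [← Sieve.pullbackArrows_comm, ← Presieve.isSheafFor_iff_generate, ← Presieve.ofArrows_pullback]
    exact isSheafFor_cover f d (Precoverage.ZeroHypercover.pullback₂ a 𝒰)

/-- Representability from an open cover by representable subfunctors. -/
theorem representable_of_openCover {ι : Type u} (H : ι → Over S) (Z : ∀ i, HilbD.Obj f d (H i))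
    (W : ∀ (T : Over S), HilbD.Obj f d T → ι → T.left.Opens)
    (hW : ∀ (i : ι) (T : Over S) (Z₀ : HilbD.Obj f d T) (T' : Over S) (a : T' ⟶ T),
      (∃ g : T' ⟶ H i, HilbD.pull f g (Z i).1 = HilbD.pull f a Z₀.1) ↔
        Set.range a.left ⊆ (W T Z₀ i : Set T.left))
    (hmono : ∀ (i : ι) (T : Over S) (g g' : T ⟶ H i),
      HilbD.pull f g (Z i).1 = HilbD.pull f g' (Z i).1 → g = g')
    (hcov : ∀ (T : Over S) (Z₀ : HilbD.Obj f d T) (t : T.left), ∃ i, t ∈ W T Z₀ i) :
    HilbD.Representable f d := by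
  let F : Sheaf Scheme.zariskiTopology.{u} (Type u) :=
    ⟨pre f d, (isSheaf_iff_isSheaf_of_type _ _).2 (isSheaf f d)⟩
  let el : ∀ i, (pre f d).obj (op (H i).left) := fun i => ⟨(H i).hom, Z i⟩
  let fam : ∀ i, yoneda.obj (H i).left ⟶ F.1 := fun i => yonedaEquiv.symm (el i)
  have hfam : ∀ i {T : Scheme.{u}} (c : T ⟶ (H i).left),
      (fam i).app (op T) c = (pre f d).map c.op (el i) := fun i {T} c => rfl
  -- open subfunctors
  have hopen : ∀ i, IsOpenImmersion.presheaf (fam i) := fun i => by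
    refine MorphismProperty.relative.of_exists fun T y => ?_
    let p : (pre f d).obj (op T) := yonedaEquiv y
    let T₀ : Over S := Over.mk p.1
    let O : T.Opens := W T₀ p.2 i
    let aO : Over.mk (O.ι ≫ p.1) ⟶ T₀ := hom O.ι p.1
    obtain ⟨g, hg⟩ := (hW i T₀ p.2 _ aO).2 (by
      show Set.range O.ι ⊆ _
      rw [Scheme.Opens.range_ι])
    have hy : ∀ {T' : Scheme.{u}} (a : T' ⟶ T), y.app (op T') a = (pre f d).map a.op p := fun {T'} a => by
      conv_lhs => rw [← Equiv.symm_apply_apply yonedaEquiv y]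
      rfl
    have helper : ∀ {T' : Scheme.{u}} (c : T' ⟶ (H i).left) (a : T' ⟶ T),
        ((fam i).app (op T') c = y.app (op T') a) → ∃ c' : Over.mk (a ≫ p.1) ⟶ H i, c'.left = c ∧
          HilbD.pull f c' (Z i).1 = HilbD.pull f (hom a p.1) p.2.1 := by
      intro T' c a h
      rw [hfam, hy, pre_map, pre_map, eq_iff] at h
      obtain ⟨h1, h2⟩ := h
      let w : Over.mk (c ≫ (H i).hom) ⟶ Over.mk (a ≫ p.1) := Over.homMk (𝟙 _) ((Category.id_comp _).trans h1.symm)
      let v : Over.mk (a ≫ p.1) ⟶ Over.mk (c ≫ (H i).hom) := Over.homMk (𝟙 _) ((Category.id_comp _).trans h1)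
      refine ⟨v ≫ hom c (H i).hom, Category.id_comp _, ?_⟩
      have := congrArg (fun I => HilbD.pull f v I) (h2 w rfl)
      simp only [pullObj, pull_pull] at this
      rw [← Category.assoc v w, show (v ≫ w) = 𝟙 _ from Over.OverMorphism.ext (Category.comp_id _), Category.id_comp] at this
      exact this.symm
    refine ⟨(O : Scheme.{u}), yoneda.map g.left, O.ι, ?_, inferInstance⟩
    refine IsPullback.of_forall_isPullback_app fun ⟨T'⟩ => ?_
    rw [CategoryTheory.Limits.Types.isPullback_iff]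
    refine ⟨?_, fun c c' h => ?_,
      fun (c : T' ⟶ (H i).left) (a : T' ⟶ T) h => ?_⟩
    · ext c
      show (fam i).app (op T') (c ≫ g.left) = y.app (op T') (c ≫ O.ι)
      rw [hfam, hy, pre_map, pre_map, eq_iff]
      refine ⟨by
        show (c ≫ g.left) ≫ (H i).hom = (c ≫ O.ι) ≫ p.1
        rw [Category.assoc, Over.w g, Category.assoc]
        rfl, fun w hw => ?_⟩
      simp only [pullObj, pull_pull]
      have e1 : hom (c ≫ g.left) (H i).hom = (Over.homMk c (by
          show c ≫ O.ι ≫ p.1 = _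
          rw [Category.assoc, Over.w g]
          rfl) : Over.mk ((c ≫ g.left) ≫ (H i).hom) ⟶ Over.mk (O.ι ≫ p.1)) ≫ g := Over.OverMorphism.ext rfl
      show HilbD.pull f (w ≫ hom (c ≫ O.ι) p.1) p.2.1 = HilbD.pull f (hom (c ≫ g.left) (H i).hom) (Z i).1
      rw [e1, ← pull_pull f _ g, hg, pull_pull]
      congr 1
      refine Over.OverMorphism.ext ?_
      show w.left ≫ c ≫ O.ι = c ≫ O.ι
      rw [hw]
      exact Category.id_comp _
    · exact (cancel_mono O.ι).1 h.2
    · obtain ⟨c', hc', hc''⟩ := helper c a h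
      have hr : Set.range a ⊆ Set.range O.ι := by
        rw [Scheme.Opens.range_ι]
        exact (hW i T₀ p.2 _ (hom a p.1)).1 ⟨c', hc''⟩
      let l := IsOpenImmersion.lift O.ι a hr
      have hl : l ≫ O.ι = a := IsOpenImmersion.lift_fac _ _ _
      refine ⟨l, ?_, hl⟩
      show l ≫ g.left = c
      let l' : Over.mk (a ≫ p.1) ⟶ Over.mk (O.ι ≫ p.1) := Over.homMk l (by
        show l ≫ O.ι ≫ p.1 = a ≫ p.1
        rw [reassoc_of% hl])
      have := hmono i _ c' (l' ≫ g) (by
        rw [hc'', ← pull_pull f l' g, hg, pull_pull]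
        exact congrArg (fun t => HilbD.pull f t p.2.1) (Over.OverMorphism.ext hl.symm))
      rw [← hc']
      exact (congrArg CommaMorphism.left this).symm
  -- covering
  haveI : Presheaf.IsLocallySurjective Scheme.zariskiTopology (Sigma.desc fam) := by
    refine ⟨fun {T} s => ?_⟩
    let T₀ : Over S := Over.mk s.1
    let 𝒱 : Scheme.OpenCover.{u} T := T.openCoverOfIsOpenCover (fun i => W T₀ s.2 i)
      (TopologicalSpace.IsOpenCover.mk (eq_top_iff.2 fun t _ =>
        TopologicalSpace.Opens.mem_iSup.2 (hcov T₀ s.2 t)))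
    refine GrothendieckTopology.superset_covering _ ?_ 𝒱.mem_grothendieckTopology
    rintro T' k ⟨_, l, m, ⟨i⟩, rfl⟩
    refine Sieve.downward_closed _ ?_ l
    let O : T.Opens := W T₀ s.2 i
    let aO : Over.mk (O.ι ≫ s.1) ⟶ T₀ := hom O.ι s.1
    obtain ⟨g, hg⟩ := (hW i T₀ s.2 _ aO).2 (by
      show Set.range O.ι ⊆ _
      rw [Scheme.Opens.range_ι])
    refine ⟨(Sigma.ι (fun i => yoneda.obj (H i).left) i).app (op (O : Scheme.{u})) g.left, ?_⟩
    show ((Sigma.ι (fun i => yoneda.obj (H i).left) i ≫ Sigma.desc fam).app (op (O : Scheme.{u}))) g.left = _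
    rw [Sigma.ι_desc]
    show (fam i).app (op (O : Scheme.{u})) g.left = (pre f d).map O.ι.op s
    rw [hfam, pre_map, pre_map, eq_iff]
    refine ⟨Over.w g, fun w hw => ?_⟩
    simp only [pullObj, pull_pull]
    show HilbD.pull f (w ≫ hom O.ι s.1) s.2.1 = HilbD.pull f (hom g.left (H i).hom) (Z i).1
    let v : Over.mk (g.left ≫ (H i).hom) ⟶ Over.mk (O.ι ≫ s.1) :=
      Over.homMk (𝟙 _) ((Category.id_comp _).trans (Over.w g).symm)
    rw [show hom g.left (H i).hom = v ≫ g from Over.OverMorphism.ext (Category.id_comp _).symm,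
      ← pull_pull f v g, hg, pull_pull, show w = v from Over.OverMorphism.ext hw]
  let R := Scheme.LocalRepresentability.representableBy hopen
  let G : Scheme.{u} := (Scheme.LocalRepresentability.glueData hopen).glued
  let e : ∀ {T : Scheme.{u}}, (T ⟶ G) ≃ (pre f d).obj (op T) := fun {T} => R.homEquiv
  have he : ∀ {T : Scheme.{u}} (a : T ⟶ G), e a = (pre f d).map a.op (e (𝟙 G)) := fun a => by
    simpa using R.homEquiv_comp a (𝟙 G)
  let u₀ := e (𝟙 G)
  refine ⟨Over.mk u₀.1, u₀.2, fun T Z₀ => ?_⟩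
  let q : (pre f d).obj (op T.left) := ⟨T.hom, Z₀⟩
  have hq := he (e.symm q)
  rw [Equiv.apply_symm_apply, pre_map, eq_iff] at hq
  obtain ⟨h1, h2⟩ := hq
  let g : T ⟶ Over.mk u₀.1 := Over.homMk (e.symm q) h1.symm
  let w : Over.mk T.hom ⟶ Over.mk (e.symm q ≫ u₀.1) := Over.homMk (𝟙 _) ((Category.id_comp _).trans h1.symm)
  have hg : HilbD.pull f g u₀.2.1 = Z₀.1 := by
    refine Eq.trans ?_ (h2 w rfl)
    simp only [pullObj, pull_pull]
    exact congrArg (fun t => HilbD.pull f t u₀.2.1) (Over.OverMorphism.ext (Category.id_comp _).symm)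
  refine ⟨g, hg, fun g' hg' => Over.OverMorphism.ext (e.injective ?_)⟩
  rw [he g'.left, show e g.left = q from e.apply_symm_apply q, pre_map, eq_iff]
  refine ⟨Over.w g', fun v hv => ?_⟩
  simp only [pullObj]
  show HilbD.pull f v Z₀.1 = HilbD.pull f (hom g'.left u₀.1) u₀.2.1
  rw [← hg', pull_pull]
  refine congrArg (fun t => HilbD.pull f t u₀.2.1) (Over.OverMorphism.ext ?_)
  show v.left ≫ g'.left = g'.left
  rw [hv]
  exact Category.id_comp _

end Groth.Agent.HilbDLib.OpenRep
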